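import Cfsg.Agent.Lib.ONanTwo.Fusion.Basic
import Cfsg.Agent.Lib.ThompsonComplementBase
import Cfsg.Agent.Lib.DihedralTransfer

/-!
The automiser of `A`: an element keeping `k` in the centre commutes with the involution induced by `S`.

Blueprint: `blueprint/S3402.md`, part A.
-/

set_option autoImplicit false
set_option linter.unusedSectionVars false
set_option linter.style.haveILetI false

open scoped commutatorElement

namespace CfsgLib.ONanTwo.Fusion

open Cfsg Cfsg.FusionSystem Cfsg.AbelianIndex Cfsg.SmallCentre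

variable {G : Type*} [Group G] [Finite G] [Fact (Nat.Prime 2)] {S : Sylow 2 G} {A : Subgroup G} {k y r : G}

local notation "ZS" => SmallCentre.cen (S : Subgroup G)

theorem Dat.conj_A (h : Dat S A k y r) {a : G} (ha : a ∈ A) : y * a * y⁻¹ ∈ A := h.hyp0.conj_mem_A h.hy ha

theorem Dat.mem_Z (h : Dat S A k y r) {a : G} (ha : a ∈ A) (hc : y * a * y⁻¹ = a) : a ∈ ZS :=
  h.hyp0.mem_cen h.hy h.hyA ha (mul_inv_eq_iff_eq_mul.mp hc).symm

theorem Dat.fix_Z (h : Dat S A k y r) {z : G} (hz : z ∈ ZS) : y * z * y⁻¹ = z := by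
  rw [cen_comm hz h.hy, mul_inv_cancel_right]

theorem Dat.Z_le (h : Dat S A k y r) {z : G} (hz : z ∈ ZS) : z ∈ A := h.hyp0.cen_le_A hz

theorem Dat.kA (h : Dat S A k y r) : k ∈ A := h.Z_le h.kZ

theorem Dat.sq_A (h : Dat S A k y r) : y * y ∈ A := by
  have := h.hyp0.pow_mem_A h.hy
  rwa [pow_two] at this

theorem Dat.norm_mem (h : Dat S A k y r) {a : G} (ha : a ∈ A) : a * (y * a * y⁻¹) ∈ ZS := by
  refine h.mem_Z (A.mul_mem ha (h.conj_A ha)) ?_
  have hc := h.comm_mem h.sq_A ha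
  calc y * (a * (y * a * y⁻¹)) * y⁻¹ = y * a * y⁻¹ * (y * y * a) * (y * y)⁻¹ := by group
    _ = y * a * y⁻¹ * a := by rw [hc]; group
    _ = a * (y * a * y⁻¹) := h.comm_mem (h.conj_A ha) ha

/-- An involution of `A` is fixed by `y` or multiplied by `k`. -/
theorem Dat.apply_inv (h : Dat S A k y r) {v : G} (hv : v ∈ A) (hv2 : v * v = 1) :
    y * v * y⁻¹ = v ∨ y * v * y⁻¹ = v * k := by
  have hvi : v⁻¹ = v := inv_eq_of_mul_eq_one_right hv2
  have hw : v * (y * v * y⁻¹) ∈ ⁅(S : Subgroup G), (S : Subgroup G)⁆ := by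
    have := Subgroup.commutator_mem_commutator (h.le hv) h.hy
    rwa [commutatorElement_def, hvi, show v * y * v * y⁻¹ = v * (y * v * y⁻¹) by group] at this
  have e : y * v * y⁻¹ = v * (v * (y * v * y⁻¹)) := by rw [← mul_assoc, hv2, one_mul]
  rcases h.kuniq _ (h.norm_mem hv) hw with e' | e' <;> rw [e'] at e
  · exact Or.inl (e.trans (mul_one v))
  · exact Or.inr e

theorem Dat.apply_out (h : Dat S A k y r) {v : G} (hv : v ∈ A) (hv2 : v * v = 1) (hvZ : v ∉ ZS) :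
    y * v * y⁻¹ = v * k :=
  (h.apply_inv hv hv2).resolve_left fun e => hvZ (h.mem_Z hv e)

theorem Dat.mul_out (h : Dat S A k y r) {v w : G} (hv : v ∈ A) (hv2 : v * v = 1) (hvZ : v ∉ ZS) (hw : w ∈ A)
    (hw2 : w * w = 1) (hwZ : w ∉ ZS) : v * w ∈ ZS := by
  refine h.mem_Z (A.mul_mem hv hw) ?_
  rw [show y * (v * w) * y⁻¹ = y * v * y⁻¹ * (y * w * y⁻¹) by group, h.apply_out hv hv2 hvZ,
    h.apply_out hw hw2 hwZ, show v * k * (w * k) = v * (k * w) * k by group, h.comm_mem h.kA hw,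
    show v * (w * k) * k = v * w * (k * k) by group, h.k2, mul_one]

theorem Dat.not_fix_all (h : Dat S A k y r) : ¬ ∀ a ∈ A, y * a * y⁻¹ = a := by
  intro hh
  have h1 : (A.subgroupOf (S : Subgroup G)).index ≠ 0 := Subgroup.index_ne_zero_of_finite
  have h2 : ((SmallCentre.cen (S : Subgroup G)).subgroupOf (S : Subgroup G)).index ≤
      (A.subgroupOf (S : Subgroup G)).index :=
    Nat.le_of_dvd (Nat.pos_of_ne_zero h1) (Subgroup.index_dvd_of_le fun a ha => h.mem_Z ha (hh a ha))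
  have := h.big
  rw [h.idx] at h2
  omega

theorem Dat.conj_mem (h : Dat S A k y r) {n a : G} (hn : n ∈ Subgroup.normalizer (A : Set G)) (ha : a ∈ A) :
    n * a * n⁻¹ ∈ A := (Subgroup.mem_normalizer_iff.mp hn a).mp ha

theorem Dat.conj_mem' (h : Dat S A k y r) {n a : G} (hn : n ∈ Subgroup.normalizer (A : Set G)) (ha : a ∈ A) :
    n⁻¹ * a * n ∈ A := (Subgroup.mem_normalizer_iff''.mp hn a).mp ha

omit [Finite G] [Fact (Nat.Prime 2)] in
theorem conj_sq {n a : G} (ha : a * a = 1) : n * a * n⁻¹ * (n * a * n⁻¹) = 1 := by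
  rw [show n * a * n⁻¹ * (n * a * n⁻¹) = n * (a * a) * n⁻¹ by group, ha, mul_one, mul_inv_cancel]

omit [Finite G] [Fact (Nat.Prime 2)] in
theorem conj_sq' {n a : G} (ha : a * a = 1) : n⁻¹ * a * n * (n⁻¹ * a * n) = 1 := by
  rw [show n⁻¹ * a * n * (n⁻¹ * a * n) = n⁻¹ * (a * a) * n by group, ha, mul_one, inv_mul_cancel]

/-- A 2-group of automorphisms of `A` containing that of `y` has order two. -/
theorem Dat.act_eq (h : Dat S A k y r) {U : Subgroup G} (hU : U ≤ Subgroup.normalizer (A : Set G))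
    (hyU : y ∈ U) (htwo : ∀ u ∈ U, ∃ j : ℕ, ∀ a ∈ A, u ^ 2 ^ j * a * (u ^ 2 ^ j)⁻¹ = a) {g : G} (hg : g ∈ U) :
    (∀ a ∈ A, g * a * g⁻¹ = a) ∨ ∀ a ∈ A, g * a * g⁻¹ = y * a * y⁻¹ := by
  haveI : Finite (MulAut A) := Finite.of_injective (fun f => (f : A → A)) DFunLike.coe_injective
  set ρ := A.normalizerMonoidHom with hρ
  have hNy := hU hyU
  have hval : ∀ (u : Subgroup.normalizer (A : Set G)) (a : A), ((ρ u a : A) : G) = (u : G) * a * (u : G)⁻¹ :=
    fun u a => rfl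
  have hone : ∀ u : Subgroup.normalizer (A : Set G), ρ u = 1 ↔ ∀ a ∈ A, (u : G) * a * (u : G)⁻¹ = a := by
    intro u
    constructor
    · intro e a ha
      have := congrArg (fun f : MulAut A => ((f ⟨a, ha⟩ : A) : G)) e
      exact this
    · intro e
      exact MulEquiv.ext fun a => Subtype.ext (e a a.2)
  set σ := ρ ⟨y, hNy⟩ with hσ
  have hσ1 : σ ≠ 1 := fun e => h.not_fix_all ((hone _).mp e)
  have hσ2 : σ * σ = 1 := by
    rw [hσ, ← map_mul]
    refine (hone _).mpr fun a ha => ?_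
    show y * y * a * (y * y)⁻¹ = a
    rw [h.comm_mem h.sq_A ha, mul_inv_cancel_right]
  set P : Sylow 2 ρ.range := (S.subtype h.toCfg.le_normalizer).mapSurjective ρ.rangeRestrict_surjective with hP
  have hPel : ∀ w : ρ.range, w ∈ (P : Subgroup ρ.range) → (w : MulAut A) = 1 ∨ (w : MulAut A) = σ := by
    intro w hw
    rw [hP, Sylow.coe_mapSurjective] at hw
    obtain ⟨⟨s, hsN⟩, hs, rfl⟩ := hw
    have hsS : s ∈ (S : Subgroup G) := by
      rw [Sylow.coe_subtype] at hs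
      exact hs
    obtain ⟨a, ha, i, rfl⟩ := h.hyp0.decomp h.hy h.hyA hsS
    have e : (⟨a * y ^ i, hsN⟩ : Subgroup.normalizer (A : Set G)) =
        ⟨a, Subgroup.le_normalizer ha⟩ * ⟨y, hNy⟩ ^ i := Subtype.ext (by push_cast; rfl)
    show ρ _ = 1 ∨ ρ _ = σ
    rw [e, map_mul, map_zpow, show ρ ⟨a, Subgroup.le_normalizer ha⟩ = 1 from (hone _).mpr fun b hb => by
      show a * b * a⁻¹ = b
      rw [h.comm_mem ha hb, mul_inv_cancel_right], one_mul]
    exact SmallCentre.zpow_of_sq hσ2 i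
  set V : Subgroup ρ.range := (U.subgroupOf _).map ρ.rangeRestrict with hV
  have hVp : IsPGroup 2 V := by
    rintro ⟨_, u, hu, rfl⟩
    obtain ⟨j, hj⟩ := htwo u hu
    refine ⟨j, Subtype.ext ?_⟩
    rw [SubmonoidClass.coe_pow, OneMemClass.coe_one, ← map_pow]
    refine Subtype.ext ?_
    show ρ (u ^ 2 ^ j) = 1
    exact (hone _).mpr fun a ha => by push_cast; exact hj a ha
  obtain ⟨c, hc⟩ := exists_conj_mem_sylow P hVp
  have hmem : ∀ (u : G) (hu : u ∈ U), ρ.rangeRestrict ⟨u, hU hu⟩ ∈ V := fun u hu => ⟨_, hu, rfl⟩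
  have key : ∀ (u : G) (hu : u ∈ U), ρ ⟨u, hU hu⟩ ≠ 1 →
      ((c * ρ.rangeRestrict ⟨u, hU hu⟩ * c⁻¹ : ρ.range) : MulAut A) = σ := fun u hu hne =>
    (hPel _ (hc _ (hmem u hu))).resolve_left fun e => hne (by
      push_cast at e
      exact conj_eq_one_iff.mp e)
  by_cases hg1 : ρ ⟨g, hU hg⟩ = 1
  · exact Or.inl ((hone _).mp hg1)
  right
  intro a ha
  have e := (key g hg hg1).trans (key y hyU hσ1).symm
  push_cast at e
  have e' : ρ ⟨g, hU hg⟩ = ρ ⟨y, hNy⟩ := mul_left_cancel (mul_right_cancel e)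
  have := congrArg (fun f : MulAut A => ((f ⟨a, ha⟩ : A) : G)) e'
  exact this

/-- `n` commutes on `A` with the automorphism of `y`. -/
def Dat.Cen (_ : Dat S A k y r) (n : G) : Prop :=
  n ∈ Subgroup.normalizer (A : Set G) ∧ ∀ a ∈ A, n * (y * a * y⁻¹) * n⁻¹ = y * (n * a * n⁻¹) * y⁻¹

theorem Dat.Cen.inv {h : Dat S A k y r} {n : G} (hn : h.Cen n) : h.Cen n⁻¹ := by
  refine ⟨inv_mem hn.1, fun a ha => ?_⟩
  have := hn.2 _ (h.conj_mem' hn.1 ha)
  rw [show n * (n⁻¹ * a * n) * n⁻¹ = a by group] at this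
  rw [inv_inv, ← this]
  group

theorem Dat.Cen.mem_Z {h : Dat S A k y r} {n z : G} (hn : h.Cen n) (hz : z ∈ ZS) : n * z * n⁻¹ ∈ ZS := by
  refine h.mem_Z (h.conj_mem hn.1 (h.Z_le hz)) ?_
  rw [← hn.2 z (h.Z_le hz), h.fix_Z hz]

theorem Dat.Cen.fix_k {h : Dat S A k y r} {n : G} (hn : h.Cen n) : n * k * n⁻¹ = k := by
  have hk := h.kD
  rw [h.hyp0.commutator_eq h.hy h.hyA] at hk
  obtain ⟨_, ⟨g, rfl⟩, hgk⟩ := hk
  have hgk' : ⁅(g : G), y⁆ = k := hgk
  have hg' := h.conj_mem hn.1 g.2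
  have e : n * k * n⁻¹ = ⁅n * (g : G) * n⁻¹, y⁆ := by
    have h2 := hn.2 _ (A.inv_mem g.2)
    rw [← hgk', commutatorElement_def, commutatorElement_def,
      show n * ((g : G) * y * (g : G)⁻¹ * y⁻¹) * n⁻¹ = n * (g : G) * n⁻¹ * (n * (y * (g : G)⁻¹ * y⁻¹) * n⁻¹) by
        group, h2]
    group
  refine (h.kuniq _ (hn.mem_Z h.kZ) (e ▸ Subgroup.commutator_mem_commutator (h.le hg') h.hy)).resolve_left
    fun e1 => h.k1 (conj_eq_one_iff.mp e1)

/-- If `n` keeps `k` in the centre, it commutes with the automorphism of `y`. -/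
theorem Dat.cen_of_k (h : Dat S A k y r) {n : G} (hn : n ∈ Subgroup.normalizer (A : Set G))
    (hk : n * k * n⁻¹ ∈ ZS) : h.Cen n := by
  set k' := n * k * n⁻¹ with hk'
  set g := n * y * n⁻¹ with hg
  have hk'A : k' ∈ A := h.Z_le hk
  have hk'2 : k' * k' = 1 := conj_sq h.k2
  have hyN : y ∈ Subgroup.normalizer (A : Set G) := h.toCfg.le_normalizer h.hy
  have hgN : g ∈ Subgroup.normalizer (A : Set G) := mul_mem (mul_mem hn hyN) (inv_mem hn)
  set W := Subgroup.closure ({k, k'} : Set G) with hW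
  have hW2 : ∀ w ∈ W, w * w = 1 ∧ w ∈ A := by
    intro w hw
    induction hw using Subgroup.closure_induction with
    | mem x hx =>
      rcases hx with e | e <;> rw [e]
      exacts [⟨h.k2, h.kA⟩, ⟨hk'2, hk'A⟩]
    | one => exact ⟨mul_one _, A.one_mem⟩
    | mul a b _ _ ha hb =>
      refine ⟨?_, A.mul_mem ha.2 hb.2⟩
      rw [show a * b * (a * b) = a * (b * a) * b by group, h.comm_mem hb.2 ha.2,
        show a * (a * b) * b = a * a * (b * b) by group, ha.1, hb.1, mul_one]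
    | inv a _ ha => exact ⟨by rw [← mul_inv_rev, ha.1, inv_one], A.inv_mem ha.2⟩
  let P : G → Prop := fun u => u ∈ Subgroup.normalizer (A : Set G) ∧ u * k' * u⁻¹ = k' ∧
    (u * k * u⁻¹ = k ∨ u * k * u⁻¹ = k * k') ∧ ∀ v ∈ A, v * v = 1 → v⁻¹ * (u * v * u⁻¹) ∈ W
  have hkW : k ∈ W := Subgroup.subset_closure (by simp)
  have hk'W : k' ∈ W := Subgroup.subset_closure (by simp)
  have hWmap : ∀ u, P u → ∀ w ∈ W, u * w * u⁻¹ ∈ W := by
    intro u hu w hw
    have hle : W ≤ W.comap (MulAut.conj u).toMonoidHom := by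
      rw [hW, Subgroup.closure_le]
      intro x hx
      rcases hx with e | e <;> rw [e] <;> clear e
      · show u * k * u⁻¹ ∈ W
        rcases hu.2.2.1 with e | e <;> rw [e]
        exacts [hkW, mul_mem hkW hk'W]
      · show u * k' * u⁻¹ ∈ W
        rw [hu.2.1]; exact hk'W
    exact hle hw
  have hP1 : P 1 := ⟨one_mem _, by simp, Or.inl (by simp), fun v hv hv2 => by simpa using W.one_mem⟩
  have hPmul : ∀ u u', P u → P u' → P (u * u') := by
    intro u u' hu hu'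
    refine ⟨mul_mem hu.1 hu'.1, ?_, ?_, fun v hv hv2 => ?_⟩
    · rw [show u * u' * k' * (u * u')⁻¹ = u * (u' * k' * u'⁻¹) * u⁻¹ by group, hu'.2.1, hu.2.1]
    · rw [show u * u' * k * (u * u')⁻¹ = u * (u' * k * u'⁻¹) * u⁻¹ by group]
      rcases hu'.2.2.1 with e | e <;> rw [e]
      · exact hu.2.2.1
      · rw [show u * (k * k') * u⁻¹ = u * k * u⁻¹ * (u * k' * u⁻¹) by group, hu.2.1]
        rcases hu.2.2.1 with e' | e' <;> rw [e']
        · exact Or.inr rfl
        · exact Or.inl (by rw [mul_assoc, hk'2, mul_one])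
    · rw [show v⁻¹ * (u * u' * v * (u * u')⁻¹) =
        v⁻¹ * (u * v * u⁻¹) * (u * (v⁻¹ * (u' * v * u'⁻¹)) * u⁻¹) by group]
      exact mul_mem (hu.2.2.2 v hv hv2) (hWmap u hu _ (hu'.2.2.2 v hv hv2))
  let U : Subgroup G :=
    { carrier := {u | P u}
      one_mem' := hP1
      mul_mem' := fun ha hb => hPmul _ _ ha hb
      inv_mem' := fun {u} hu => by
        have hpow : ∀ i : ℕ, P (u ^ i) := fun i => by
          induction i with
          | zero => rw [pow_zero]; exact hP1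
          | succ i ih => rw [pow_succ]; exact hPmul _ _ ih hu
        show P u⁻¹
        rw [show u⁻¹ = u ^ (orderOf u - 1) by
          refine inv_eq_of_mul_eq_one_right ?_
          rw [← pow_succ', Nat.sub_add_cancel (orderOf_pos u), pow_orderOf_eq_one]]
        exact hpow _ }
  have hyU : y ∈ U := ⟨hyN, h.fix_Z hk, Or.inl (h.fix_Z h.kZ), fun v hv hv2 => by
    rcases h.apply_inv hv hv2 with e | e <;> rw [e]
    · rw [inv_mul_cancel]; exact W.one_mem
    · rw [inv_mul_cancel_left]; exact hkW⟩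
  have hgv : ∀ v ∈ A, v * v = 1 → g * v * g⁻¹ = v ∨ g * v * g⁻¹ = v * k' := by
    intro v hv hv2
    rw [hg, show n * y * n⁻¹ * v * (n * y * n⁻¹)⁻¹ = n * (y * (n⁻¹ * v * n) * y⁻¹) * n⁻¹ by group]
    rcases h.apply_inv (h.conj_mem' hn hv) (conj_sq' hv2) with e | e <;> rw [e]
    · exact Or.inl (by group)
    · exact Or.inr (by rw [hk']; group)
  have hgU : g ∈ U := ⟨hgN, by
      rw [hg, hk', show n * y * n⁻¹ * (n * k * n⁻¹) * (n * y * n⁻¹)⁻¹ = n * (y * k * y⁻¹) * n⁻¹ by group,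
        h.fix_Z h.kZ], hgv k h.kA h.k2, fun v hv hv2 => by
      rcases hgv v hv hv2 with e | e <;> rw [e]
      · rw [inv_mul_cancel]; exact W.one_mem
      · rw [inv_mul_cancel_left]; exact hk'W⟩
  have htwo : ∀ u ∈ U, ∃ j : ℕ, ∀ a ∈ A, u ^ 2 ^ j * a * (u ^ 2 ^ j)⁻¹ = a := by
    intro u hu
    have hu' : P u := hu
    have hsq : ∀ w ∈ W, u * (u * w * u⁻¹) * u⁻¹ = w := by
      intro w hw
      have hle : W ≤ ((MulAut.conj (u * u)).toMonoidHom).eqLocus (MonoidHom.id G) := by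
        rw [hW, Subgroup.closure_le]
        intro x hx
        rcases hx with e | e <;> rw [e] <;> clear e
        · show u * u * k * (u * u)⁻¹ = k
          rw [show u * u * k * (u * u)⁻¹ = u * (u * k * u⁻¹) * u⁻¹ by group]
          rcases hu'.2.2.1 with e | e <;> rw [e]
          · exact e
          · rw [show u * (k * k') * u⁻¹ = u * k * u⁻¹ * (u * k' * u⁻¹) by group, e, hu'.2.1, mul_assoc,
              hk'2, mul_one]
        · show u * u * k' * (u * u)⁻¹ = k'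
          rw [show u * u * k' * (u * u)⁻¹ = u * (u * k' * u⁻¹) * u⁻¹ by group, hu'.2.1, hu'.2.1]
      have := hle hw
      change u * u * w * (u * u)⁻¹ = w at this
      rwa [show u * (u * w * u⁻¹) * u⁻¹ = u * u * w * (u * u)⁻¹ by group]
    have hu2 : P (u * u) := hPmul _ _ hu' hu'
    have hfix : ∀ v ∈ A, v ^ 2 = 1 → u ^ 4 * v * (u ^ 4)⁻¹ = v := by
      intro v hv hv2
      rw [pow_two] at hv2
      set w := v⁻¹ * (u * u * v * (u * u)⁻¹) with hw
      have hwW : w ∈ W := hu2.2.2.2 v hv hv2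
      have e : u * u * v * (u * u)⁻¹ = v * w := by rw [hw, mul_inv_cancel_left]
      calc u ^ 4 * v * (u ^ 4)⁻¹ = u * u * (u * u * v * (u * u)⁻¹) * (u * u)⁻¹ := by
            rw [show u ^ 4 = u * u * (u * u) by simp [pow_succ, mul_assoc]]; group
        _ = u * u * (v * w) * (u * u)⁻¹ := by rw [e]
        _ = u * u * v * (u * u)⁻¹ * (u * (u * w * u⁻¹) * u⁻¹) := by group
        _ = v := by rw [e, hsq w hwW, mul_assoc, (hW2 w hwW).1, mul_one]
    obtain ⟨j, hj⟩ := DihedralFusion.exists_mem_pow_two_of_odd (u ^ 4)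
    refine ⟨2 + j, fun a ha => ?_⟩
    have hN : u ^ 2 ^ (2 + j) ∈ Subgroup.normalizer (A : Set G) := pow_mem hu'.1 _
    refine ThompsonComplement.fixes_of_fixes_omega (p := 2) (Z := A) (S.2.to_le h.le)
      (fun b hb c hc => h.comm_mem hb hc) ?_ (fun b hb => h.conj_mem hN hb) ?_ a ha
    · rw [pow_add, pow_mul]
      exact Nat.coprime_two_right.mpr (by simpa using hj)
    · intro b hb hb2
      rw [pow_add, pow_mul]
      generalize 2 ^ j = i
      induction i with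
      | zero => simp
      | succ i ih =>
        rw [pow_succ]
        calc (u ^ 2 ^ 2) ^ i * u ^ 2 ^ 2 * b * ((u ^ 2 ^ 2) ^ i * u ^ 2 ^ 2)⁻¹
            = (u ^ 2 ^ 2) ^ i * (u ^ 4 * b * (u ^ 4)⁻¹) * ((u ^ 2 ^ 2) ^ i)⁻¹ := by
              rw [show (2 : ℕ) ^ 2 = 4 by norm_num]; group
          _ = b := by rw [hfix b hb hb2]; exact ih
  rcases h.act_eq (fun u hu => (hu : P u).1) hyU htwo hgU with e | e
  · refine absurd (fun a ha => ?_) h.not_fix_all
    have h1 := e _ (h.conj_mem hn ha)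
    rw [hg, show n * y * n⁻¹ * (n * a * n⁻¹) * (n * y * n⁻¹)⁻¹ = n * (y * a * y⁻¹) * n⁻¹ by group] at h1
    exact mul_left_cancel (mul_right_cancel h1)
  · refine ⟨hn, fun a ha => ?_⟩
    have h1 := e _ (h.conj_mem hn ha)
    rw [← h1, hg]
    group

/-- An involution in two of the moved centres lies in all of them. -/
theorem Dat.common (h : Dat S A k y r) {n u m : G} (hn : n ∈ Subgroup.normalizer (A : Set G))
    (hnk : n * k * n⁻¹ ∉ ZS) (hu : u ∈ ZS) (hu2 : u * u = 1) (hun : n⁻¹ * u * n ∈ ZS)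
    (hm : m ∈ Subgroup.normalizer (A : Set G)) : m⁻¹ * u * m ∈ ZS := by
  by_cases h1 : m * k * m⁻¹ ∈ ZS
  · have := (h.cen_of_k hm h1).inv.mem_Z hu
    rwa [inv_inv] at this
  set v := m * k * m⁻¹ with hv
  have hvA : v ∈ A := h.conj_mem hm h.kA
  by_cases h2 : n⁻¹ * v * n ∈ ZS
  · have hc := h.cen_of_k (n := n⁻¹ * m) (mul_mem (inv_mem hn) hm) (by
      rwa [show n⁻¹ * m * k * (n⁻¹ * m)⁻¹ = n⁻¹ * v * n by rw [hv]; group])
    have := hc.inv.mem_Z hun
    rwa [show (n⁻¹ * m)⁻¹ * (n⁻¹ * u * n) * (n⁻¹ * m)⁻¹⁻¹ = m⁻¹ * u * m by group] at this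
  have hk' : n⁻¹ * k * n ∉ ZS := fun hh => hnk (by
    have hc := h.cen_of_k (n := n⁻¹) (inv_mem hn) (by rwa [inv_inv])
    have := hc.inv.fix_k
    rw [inv_inv] at this
    rw [this]; exact h.kZ)
  have hyv := h.apply_out hvA (conj_sq h.k2) h1
  have hprod : n⁻¹ * (v * k) * n ∈ ZS := by
    rw [show n⁻¹ * (v * k) * n = n⁻¹ * v * n * (n⁻¹ * k * n) by group]
    exact h.mul_out (h.conj_mem' hn hvA) (conj_sq' (conj_sq h.k2)) h2 (h.conj_mem' hn h.kA) (conj_sq' h.k2) hk'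
  have hc := h.cen_of_k (n := n⁻¹ * y * m) (mul_mem (mul_mem (inv_mem hn) (h.toCfg.le_normalizer h.hy)) hm) (by
    rwa [show n⁻¹ * y * m * k * (n⁻¹ * y * m)⁻¹ = n⁻¹ * (y * v * y⁻¹) * n by rw [hv]; group, hyv])
  have := hc.inv.mem_Z hun
  rw [show (n⁻¹ * y * m)⁻¹ * (n⁻¹ * u * n) * (n⁻¹ * y * m)⁻¹⁻¹ = m⁻¹ * (y⁻¹ * u * y) * m by group] at this
  have hfy : y⁻¹ * u * y = u := by
    rw [show y⁻¹ * u * y = y⁻¹ * u * y⁻¹⁻¹ by group, cen_comm hu (inv_mem h.hy), mul_inv_cancel_right]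
  rwa [hfy] at this

end CfsgLib.ONanTwo.Fusion
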