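import Cfsg.Agent.Lib.Fusion.AbelianIndex.Structure
import Cfsg.Agent.Lib.Fusion.Group
import Cfsg.Agent.Lib.AbelianTwoComplement.Main
import Mathlib.GroupTheory.Focal

/-!
Simple groups whose Sylow 2-subgroup has an abelian subgroup `A` of index two with centre of index above four:
fusion in `A`, the shape of the commutator subgroup.

Blueprint: `blueprint/S3402.md`, part A.
-/

set_option autoImplicit false
set_option linter.unusedSectionVars false
set_option linter.style.haveILetI false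

open scoped commutatorElement

namespace CfsgLib.ONanTwo.Fusion

open Cfsg Cfsg.FusionSystem Cfsg.AbelianIndex

variable {G : Type*} [Group G] [Finite G]

/-- `S` is nonabelian, has the abelian subgroup `A` of index two, and `|S : Z(S)| > 4`. -/
structure Cfg (S : Sylow 2 G) (A : Subgroup G) : Prop where
  le : A ≤ (S : Subgroup G)
  comm : IsMulCommutative A
  idx : (A.subgroupOf (S : Subgroup G)).index = 2
  nonab : ¬ IsMulCommutative (S : Subgroup G)
  big : 4 < ((SmallCentre.cen (S : Subgroup G)).subgroupOf (S : Subgroup G)).index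

variable {S : Sylow 2 G} {A : Subgroup G}

theorem Cfg.hyp0 [Fact (Nat.Prime 2)] (h : Cfg S A) :
    Hyp0 2 (groupFusionSystem (S : Subgroup G)) A :=
  ⟨S.2, groupFusionSystem_isSaturated S, h.nonab, h.le, h.comm, h.idx⟩

variable [Fact (Nat.Prime 2)]

theorem Cfg.comm_mem (h : Cfg S A) {a b : G} (ha : a ∈ A) (hb : b ∈ A) : a * b = b * a := h.hyp0.comm_mem ha hb

/-- `A` is the only abelian subgroup of index two of `S`. -/
theorem Cfg.uniq (h : Cfg S A) {B : Subgroup G} (hB : B ≤ (S : Subgroup G))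
    (hc : ∀ a ∈ B, ∀ b ∈ B, a * b = b * a) (hcard : Nat.card B = Nat.card A) : B = A := by
  by_contra hne
  obtain ⟨y, hy, hyA⟩ : ∃ y ∈ B, y ∉ A := by
    by_contra hh
    push Not at hh
    exact hne (Subgroup.eq_of_le_of_card_ge hh hcard.ge)
  have hle : B ⊓ A ≤ SmallCentre.cen (S : Subgroup G) := fun a ha =>
    h.hyp0.mem_cen (hB hy) hyA ha.2 (hc a ha.1 y hy)
  have h1 := Subgroup.index_inf_le (H := B.subgroupOf (S : Subgroup G)) (K := A.subgroupOf (S : Subgroup G))
  have hBi : (B.subgroupOf (S : Subgroup G)).index = 2 := by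
    have e1 := Subgroup.card_mul_index (B.subgroupOf (S : Subgroup G))
    have e2 := Subgroup.card_mul_index (A.subgroupOf (S : Subgroup G))
    rw [Nat.card_congr (Subgroup.subgroupOfEquivOfLe hB).toEquiv, hcard] at e1
    rw [Nat.card_congr (Subgroup.subgroupOfEquivOfLe h.le).toEquiv, h.idx, ← e1] at e2
    exact (Nat.eq_of_mul_eq_mul_left Nat.card_pos e2).symm
  rw [hBi, h.idx] at h1
  have h2 : ((SmallCentre.cen (S : Subgroup G)).subgroupOf (S : Subgroup G)).index ≤
      (B.subgroupOf (S : Subgroup G) ⊓ A.subgroupOf (S : Subgroup G)).index :=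
    Nat.le_of_dvd (Nat.pos_of_ne_zero Subgroup.index_ne_zero_of_finite)
      (Subgroup.index_dvd_of_le fun a ha => hle ⟨ha.1, ha.2⟩)
  have := h.big
  omega

/-- An element mapping `A` into `S` normalises it. -/
theorem Cfg.mem_normalizer (h : Cfg S A) {g : G} (hg : ∀ a ∈ A, g * a * g⁻¹ ∈ (S : Subgroup G)) :
    g ∈ Subgroup.normalizer (A : Set G) := by
  have e : A.map (MulAut.conj g).toMonoidHom = A := by
    refine h.uniq ?_ ?_ (Nat.card_congr (A.equivMapOfInjective _ (MulAut.conj g).injective).toEquiv).symm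
    · rintro _ ⟨a, ha, rfl⟩; exact hg a ha
    · rintro _ ⟨a, ha, rfl⟩ _ ⟨b, hb, rfl⟩
      rw [← map_mul, ← map_mul, h.comm_mem ha hb]
  refine Subgroup.mem_normalizer_iff.mpr fun a => ?_
  conv_rhs => rw [← e]
  exact ⟨fun ha => ⟨a, ha, rfl⟩, fun ⟨b, hb, hba⟩ => (MulAut.conj g).injective hba ▸ hb⟩

theorem Cfg.normalizer_le (h : Cfg S A) :
    Subgroup.normalizer ((S : Subgroup G) : Set G) ≤ Subgroup.normalizer (A : Set G) :=
  fun g hg => h.mem_normalizer fun a ha => (Subgroup.mem_normalizer_iff.mp hg a).mp (h.le ha)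

theorem Cfg.le_normalizer (h : Cfg S A) : (S : Subgroup G) ≤ Subgroup.normalizer (A : Set G) :=
  h.hyp0.normalizer_A

/-- Fusion in `A` is induced by the normaliser of `A`. -/
theorem Cfg.fusion (h : Cfg S A) {a b g : G} (ha : a ∈ A) (hb : b ∈ A) (hg : g * a * g⁻¹ = b) :
    ∃ n ∈ Subgroup.normalizer (A : Set G), n * a * n⁻¹ = b := by
  set C := Subgroup.centralizer ({b} : Set G) with hC
  have hAC : A ≤ C := fun x hx => Subgroup.mem_centralizer_singleton_iff.mpr (h.comm_mem hx hb)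
  have hgC : A.map (MulAut.conj g).toMonoidHom ≤ C := by
    rintro _ ⟨x, hx, rfl⟩
    refine Subgroup.mem_centralizer_singleton_iff.mpr ?_
    show g * x * g⁻¹ * b = b * (g * x * g⁻¹)
    rw [← hg, show g * x * g⁻¹ * (g * a * g⁻¹) = g * (x * a) * g⁻¹ by group, h.comm_mem hx ha]
    group
  have hAp : IsPGroup 2 A := S.2.to_le h.le
  obtain ⟨P, hP⟩ := (hAp.comap_of_injective C.subtype Subtype.coe_injective).exists_le_sylow (G := C)
  obtain ⟨c, hc⟩ := exists_conj_mem_sylow P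
    (X := (A.map (MulAut.conj g).toMonoidHom).subgroupOf C)
    ((hAp.map _).comap_of_injective C.subtype Subtype.coe_injective)
  obtain ⟨e, he⟩ := exists_conj_mem_sylow S (X := (P : Subgroup C).map C.subtype) (P.2.map _)
  have heA : e ∈ Subgroup.normalizer (A : Set G) :=
    h.mem_normalizer fun x hx => he x ⟨⟨x, hAC hx⟩, hP hx, rfl⟩
  have hall : e * ((c : C) : G) * g ∈ Subgroup.normalizer (A : Set G) := h.mem_normalizer fun x hx => by
    have hm : g * x * g⁻¹ ∈ A.map (MulAut.conj g).toMonoidHom := ⟨x, hx, rfl⟩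
    have := he _ (Subgroup.mem_map_of_mem C.subtype (hc ⟨_, hgC hm⟩ hm))
    simpa [mul_assoc] using this
  refine ⟨((c : C) : G) * g, ?_, ?_⟩
  · have := mul_mem (inv_mem heA) hall
    rwa [mul_assoc e, inv_mul_cancel_left] at this
  · have hcb : ((c : C) : G) * b = b * ((c : C) : G) := Subgroup.mem_centralizer_singleton_iff.mp c.2
    rw [mul_inv_rev, show ((c : C) : G) * g * a * (g⁻¹ * ((c : C) : G)⁻¹) =
      ((c : C) : G) * (g * a * g⁻¹) * ((c : C) : G)⁻¹ by group, hg, hcb, mul_inv_cancel_right]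

/-- Some essential subgroup differs from `A`, as `S` lies in the derived subgroup. -/
theorem Cfg.exists_essential (h : Cfg S A) (hperf : (S : Subgroup G) ≤ commutator G) :
    ∃ E, (groupFusionSystem (S : Subgroup G)).IsEssential 2 E ∧ E ≠ A := by
  by_contra hh
  push Not at hh
  set F := groupFusionSystem (S : Subgroup G) with hF
  have hDA := h.hyp0.commutator_le_A
  let E' : FusionSystem (S : Subgroup G) :=
    { Hom := fun P => {φ | φ ∈ F.Hom P ∧ ∀ x : P, (x : G)⁻¹ * φ x ∈ A}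
      le_of_mem := fun h => F.le_of_mem h.1
      injective_of_mem := fun h => F.injective_of_mem h.1
      conj_mem := fun {P g} hP hg => ⟨F.conj_mem hP hg, fun x => hDA (by
        have := Subgroup.commutator_mem_commutator (InvMemClass.inv_mem (hP x.2)) hg
        simpa [commutatorElement_def, conjHom_apply, mul_assoc] using this)⟩
      comp_mem := fun {P Q φ ψ} hφ hψ h => ⟨F.comp_mem hφ.1 hψ.1 h, fun x => by
        have := mul_mem (hφ.2 x) (hψ.2 ⟨φ x, h x⟩)
        rwa [mul_assoc, mul_inv_cancel_left] at this⟩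
      inv_mem := fun {P φ} hφ => by
        obtain ⟨ψ, hψ, hl⟩ := F.inv_mem hφ.1
        refine ⟨ψ, ⟨hψ, ?_⟩, hl⟩
        rintro ⟨_, x, rfl⟩
        have := InvMemClass.inv_mem (hφ.2 x)
        rw [hl]
        simpa [mul_inv_rev] using this }
  have key : F ≤ E' := by
    refine h.hyp0.sat.le_of_autGroup_le S.2 E' fun P hP α hα => ?_
    have hPS : P ≤ (S : Subgroup G) := by
      rcases hP with rfl | hP
      exacts [le_rfl, hP.1.1]
    refine (E'.mem_autGroup_iff hPS).mpr ⟨(F.mem_autGroup_iff hPS).mp hα, fun y => ?_⟩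
    rw [autGroup_groupFusionSystem hPS] at hα
    obtain ⟨g, -, hgN, hge⟩ := mem_autInducedBy_iff.mp hα
    show (y : G)⁻¹ * (α y : P) ∈ A
    rw [hge]
    rcases hP with rfl | hP
    · by_cases hyA : (y : G) ∈ A
      · exact A.mul_mem (A.inv_mem hyA) ((Subgroup.mem_normalizer_iff.mp (h.normalizer_le hgN) y).mp hyA)
      · have hgy : g * (y : G) * g⁻¹ ∉ A := fun hm =>
          hyA ((Subgroup.mem_normalizer_iff.mp (h.normalizer_le hgN) y).mpr hm)
        have hgS : g * (y : G) * g⁻¹ ∈ (S : Subgroup G) := (Subgroup.mem_normalizer_iff.mp hgN y).mp y.2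
        have := (Subgroup.mul_mem_iff_of_index_two h.idx
          (a := (⟨(y : G)⁻¹, inv_mem y.2⟩ : (S : Subgroup G))) (b := ⟨_, hgS⟩)).mpr
          ⟨fun h1 => absurd ((inv_mem_iff (H := A)).mp h1) hyA, fun h1 => absurd h1 hgy⟩
        exact this
    · obtain rfl := hh P hP
      exact P.mul_mem (P.inv_mem y.2) ((Subgroup.mem_normalizer_iff.mp hgN y).mp y.2)
  have hfoc : (S : Subgroup G).focalSubgroup ≤ A := by
    rw [Subgroup.focalSubgroup_def, Subgroup.closure_le]
    rintro _ ⟨hmem, x, hx, u, rfl⟩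
    have hu : u * x⁻¹ * u⁻¹ ∈ (S : Subgroup G) := by
      have := mul_mem (inv_mem hx) hmem
      rwa [commutatorElement_def, show x⁻¹ * (x * u * x⁻¹ * u⁻¹) = u * x⁻¹ * u⁻¹ by group] at this
    have hm : conjHom (Subgroup.zpowers x⁻¹) u ∈ F.Hom (Subgroup.zpowers x⁻¹) := by
      refine conjHom_mem_groupFusionSystem (Subgroup.zpowers_le.mpr (inv_mem hx)) ?_
      rintro _ ⟨i, rfl⟩
      show u * x⁻¹ ^ i * u⁻¹ ∈ _
      rw [← conj_zpow]
      exact zpow_mem hu i
    have := (key _ hm).2 ⟨x⁻¹, Subgroup.mem_zpowers _⟩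
    rw [conjHom_apply] at this
    rw [commutatorElement_def]
    simpa [mul_assoc] using this
  obtain ⟨y, hy, hyA⟩ := h.hyp0.exists_outside
  refine hyA (hfoc ?_)
  rw [← Subgroup.commutator_inf_eq_focalSubgroup (P := S)]
  exact ⟨hperf hy, hy⟩

/-- The centre meets the commutator subgroup of `S` in order two. -/
theorem Cfg.card_cen_inf (h : Cfg S A) (hperf : (S : Subgroup G) ≤ commutator G) :
    Nat.card ↥(SmallCentre.cen (S : Subgroup G) ⊓ ⁅(S : Subgroup G), (S : Subgroup G)⁆) = 2 := by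
  obtain ⟨E, hE, hEA⟩ := h.exists_essential hperf
  rcases h.hyp0.typeH_or hE hEA with hH | ⟨hZ, hna⟩
  · obtain ⟨c, k, -, hK, hko, -⟩ := h.hyp0.exists_tv hE hH
    rw [hK, Nat.card_zpowers, hko]
  · obtain ⟨y, hyE, hyA⟩ := h.hyp0.exists_not_mem_A hE hEA
    exact (h.hyp0.typeB hE hZ hna hyE hyA).2.2.1

/-- The data used below: `k` spans `Z(S) ∩ [S, S]`, `y` lies outside `A`, and `δ r` spans `[S, S]`. -/
structure Dat (S : Sylow 2 G) (A : Subgroup G) (k y r : G) : Prop extends Cfg S A where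
  hy : y ∈ (S : Subgroup G)
  hyA : y ∉ A
  kZ : k ∈ SmallCentre.cen (S : Subgroup G)
  k2 : k * k = 1
  k1 : k ≠ 1
  kuniq : ∀ z ∈ SmallCentre.cen (S : Subgroup G), z ∈ ⁅(S : Subgroup G), (S : Subgroup G)⁆ → z = 1 ∨ z = k
  kD : k ∈ ⁅(S : Subgroup G), (S : Subgroup G)⁆
  hr : r ∈ A
  gen : ∀ a ∈ A, ∃ i : ℤ, a * (r ^ i)⁻¹ ∈ SmallCentre.cen (S : Subgroup G)

/-- Elements of the commutator subgroup are inverted outside `A`. -/
theorem Cfg.inv_D (h : Cfg S A) {y d : G} (hy : y ∈ (S : Subgroup G)) (hyA : y ∉ A)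
    (hd : d ∈ ⁅(S : Subgroup G), (S : Subgroup G)⁆) : y * d * y⁻¹ = d⁻¹ := by
  rw [h.hyp0.commutator_eq hy hyA] at hd
  obtain ⟨_, ⟨g, rfl⟩, rfl⟩ := hd
  have hy2 : y * y ∈ A := by
    have := h.hyp0.pow_mem_A hy
    rwa [pow_two] at this
  have hc := h.comm_mem hy2 (A.inv_mem g.2)
  show y * ⁅(g : G), y⁆ * y⁻¹ = ⁅(g : G), y⁆⁻¹
  rw [commutatorElement_inv, commutatorElement_def, commutatorElement_def]
  calc y * ((g : G) * y * (g : G)⁻¹ * y⁻¹) * y⁻¹
      = y * (g : G) * y⁻¹ * (y * y * (g : G)⁻¹) * (y * y)⁻¹ := by group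
    _ = y * (g : G) * y⁻¹ * (g : G)⁻¹ := by rw [hc]; group

theorem Cfg.exists_dat (h : Cfg S A) (hperf : (S : Subgroup G) ≤ commutator G) :
    ∃ k y r, Dat S A k y r := by
  obtain ⟨y, hy, hyA⟩ := h.hyp0.exists_outside
  set Z := SmallCentre.cen (S : Subgroup G) with hZ
  set D := ⁅(S : Subgroup G), (S : Subgroup G)⁆ with hD
  haveI : Finite ↥(Z ⊓ D) := inferInstance
  haveI : Nontrivial ↥(Z ⊓ D) := Finite.one_lt_card_iff_nontrivial.mp (h.card_cen_inf hperf ▸ one_lt_two)
  obtain ⟨⟨k, hk⟩, hk1⟩ := exists_ne (1 : ↥(Z ⊓ D))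
  have hk1' : k ≠ 1 := fun e => hk1 (Subtype.ext e)
  have hall : ∀ z ∈ Z ⊓ D, z = 1 ∨ z = k := by
    intro z hz
    by_contra hh
    push Not at hh
    have h3 : 3 ≤ Nat.card ↥(Z ⊓ D) := by
      classical
      haveI := Fintype.ofFinite ↥(Z ⊓ D)
      rw [Nat.card_eq_fintype_card]
      calc 3 = ({1, ⟨k, hk⟩, ⟨z, hz⟩} : Finset ↥(Z ⊓ D)).card :=
            (Finset.card_eq_three.mpr ⟨_, _, _, fun e => hk1' (congrArg Subtype.val e).symm,
              fun e => hh.1 (congrArg Subtype.val e).symm, fun e => hh.2 (congrArg Subtype.val e).symm, rfl⟩).symm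
        _ ≤ _ := Finset.card_le_univ _
    rw [h.card_cen_inf hperf] at h3
    omega
  have hk2 : k * k = 1 := (hall _ (mul_mem hk hk)).resolve_right fun e => hk1' (mul_eq_left.mp e)
  have hDA : D ≤ A := h.hyp0.commutator_le_A
  -- `D` is cyclic
  have hcyc : IsCyclic D := CfsgLib.AbTwoCompl.isCyclic_of_unique_involution (S.2.to_le (hDA.trans h.le))
    (fun a ha b hb => h.comm_mem (hDA ha) (hDA hb)) (z := k) fun w hw hw2 => by
      have hww : w⁻¹ = w := inv_eq_of_mul_eq_one_left (by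
        rw [← pow_two, ← hw2, pow_orderOf_eq_one])
      have hwZ : w ∈ Z := h.hyp0.mem_cen hy hyA (hDA hw) (by
        have := h.inv_D hy hyA hw
        rw [hww, mul_inv_eq_iff_eq_mul] at this
        exact this.symm)
      refine (hall w ⟨hwZ, hw⟩).resolve_left fun e => ?_
      rw [e, orderOf_one] at hw2
      omega
  obtain ⟨⟨d, hd⟩, hdgen⟩ := hcyc
  have hd' := hd
  rw [hD, h.hyp0.commutator_eq hy hyA] at hd'
  obtain ⟨_, ⟨r, rfl⟩, hrd⟩ := hd'
  refine ⟨k, y, r, ⟨h, hy, hyA, hk.1, hk2, hk1', fun z hz hz' => hall z ⟨hz, hz'⟩, hk.2, r.2, fun a ha => ?_⟩⟩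
  have hda : ⁅a, y⁆ ∈ D := Subgroup.commutator_mem_commutator (h.le ha) hy
  obtain ⟨i, hi⟩ := hdgen ⟨_, hda⟩
  refine ⟨i, h.hyp0.mem_cen hy hyA (A.mul_mem ha (A.inv_mem (A.zpow_mem r.2 i))) ?_⟩
  have e : (delta h.hyp0 hy) (⟨a, ha⟩ * (r ^ i)⁻¹) = 1 := by
    rw [map_mul, map_inv, map_zpow, mul_inv_eq_one]
    refine Subtype.ext ?_
    have hi' := congrArg Subtype.val hi
    simp only [SubgroupClass.coe_zpow] at hi'
    rw [SubgroupClass.coe_zpow, coe_delta]
    show ⁅a, y⁆ = _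
    rw [← hi', ← hrd]
    rfl
  have := congrArg Subtype.val e
  exact commutatorElement_eq_one_iff_mul_comm.mp this

end CfsgLib.ONanTwo.Fusion
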