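import Cfsg.Agent.Lib.ONanTwo.Fusion.One

/-!
Every element normalising `A` commutes with the automorphism of `S`: then the centre has order at most four.

Blueprint: `blueprint/S3402.md`, part A.
-/

set_option autoImplicit false
set_option linter.unusedSectionVars false
set_option linter.style.haveILetI false

open scoped commutatorElement

namespace CfsgLib.ONanTwo.Fusion

open Cfsg Cfsg.FusionSystem Cfsg.AbelianIndex Cfsg.SmallCentre

variable {G : Type*} [Group G] [Finite G] [Fact (Nat.Prime 2)] {S : Sylow 2 G} {A : Subgroup G} {k y r : G}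

local notation "ZS" => SmallCentre.cen (S : Subgroup G)

/-- An automorphism of an essential subgroup preserving the centre acts on it as an automorphism of `S`. -/
theorem exists_extend_cen {E : Subgroup G} {F : FusionSystem (S : Subgroup G)} (h : Hyp0 2 F A)
    (hE : F.IsEssential 2 E) (hH : TypeH (S : Subgroup G) A E) {ψ : MulAut E} (hψ : ψ ∈ F.autGroup E)
    (hZ : ((SmallCentre.cen (S : Subgroup G)).subgroupOf E).map ψ.toMonoidHom =
      (SmallCentre.cen (S : Subgroup G)).subgroupOf E) :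
    ∃ β ∈ F.autGroup (S : Subgroup G), ∀ (z : (S : Subgroup G)), (z : G) ∈ ZS → ∀ hm : (z : G) ∈ E,
      ((β z : (S : Subgroup G)) : G) = (ψ ⟨z, hm⟩ : E) := by
  obtain ⟨c, k, hR, -, -, htv⟩ := h.exists_tv hE hH
  have hES := hE.1.1
  haveI : Finite E := finite_of_le hES
  obtain ⟨φ, hφ, hr, hφe⟩ := F.exists_map_of_mem_autGroup hES hψ
  have hlt := lt_normalizerIn h.pg (hE.lt h.pg h.sat)
  have hext : normalizerIn (S : Subgroup G) E ≤ extender (S : Subgroup G) E φ := by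
    intro g hg
    let cg : MulAut E := E.normalizerMonoidHom ⟨g, hg.2⟩
    have hcg : cg ∈ autInducedBy (S : Subgroup G) E := mem_autInducedBy_iff.mpr ⟨g, hg.1, hg.2, fun _ => rfl⟩
    have hc' : ψ * cg * ψ⁻¹ ∈ autInducedBy (S : Subgroup G) E := by
      rw [hR] at hcg ⊢
      obtain ⟨i, hi⟩ := hcg
      rw [← show c ^ i = cg from hi, ← conj_zpow]
      exact Subgroup.zpow_mem _ ((htv.conj_c_mem_iff hψ).mpr hZ) _
    obtain ⟨g', hg', -, hge⟩ := mem_autInducedBy_iff.mp hc'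
    refine (mem_extender_iff (F.apply_mem hφ)).mpr ⟨hg.1, hg.2, g', hg', fun x hx => ?_⟩
    rw [hφe, hφe, ← hge]
    rw [MulAut.mul_apply, MulAut.mul_apply, MulAut.inv_apply_self]
    rfl
  obtain ⟨χ, hχ, hχe⟩ := (h.sat.isReceptive_of_isFullyNormalized h.pg hE.2.1).2 E φ hφ hr
  have hχ' : χ.comp (Subgroup.inclusion hext) ∈ F.Hom (normalizerIn (S : Subgroup G) E) := F.restrict_mem hχ hext
  have hna : ¬ IsMulCommutative ↥(normalizerIn (S : Subgroup G) E) := by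
    intro hc
    obtain ⟨w, hwN, hwE⟩ := SetLike.exists_of_lt hlt
    refine hwE (hE.1.centralizerIn_le_self ⟨hwN.1, Subgroup.mem_centralizer_iff.mpr fun e he => ?_⟩)
    haveI := hc
    exact congrArg Subtype.val (IsMulCommutative.is_comm.comm (⟨e, hlt.le he⟩ :
      ↥(normalizerIn (S : Subgroup G) E)) ⟨w, hwN⟩)
  obtain ⟨β, hβ, hβe⟩ := h.cenExt hχ' hna
  refine ⟨β, hβ, fun z hz hm => ?_⟩
  rw [← (hβe z hz).2 (hlt.le hm), ← hφe]
  exact hχe _ hm _

/-- The subgroup generated by the centre and `v`. -/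
def Ev (S : Sylow 2 G) (v : G) : Subgroup G := SmallCentre.cen (S : Subgroup G) ⊔ Subgroup.zpowers v

/-- The elements of the centre that `N(Ev v)` keeps central. -/
def Kv (S : Sylow 2 G) (v : G) : Subgroup G where
  carrier := {z | z ∈ SmallCentre.cen (S : Subgroup G) ∧
    ∀ g ∈ Subgroup.normalizer (Ev S v : Set G), g * z * g⁻¹ ∈ SmallCentre.cen (S : Subgroup G)}
  one_mem' := ⟨one_mem _, fun g _ => by rw [mul_one, mul_inv_cancel]; exact one_mem _⟩
  mul_mem' := fun {a b} ha hb => ⟨mul_mem ha.1 hb.1, fun g hg => by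
    rw [show g * (a * b) * g⁻¹ = g * a * g⁻¹ * (g * b * g⁻¹) by group]
    exact mul_mem (ha.2 g hg) (hb.2 g hg)⟩
  inv_mem' := fun {a} ha => ⟨inv_mem ha.1, fun g hg => by
    rw [show g * a⁻¹ * g⁻¹ = (g * a * g⁻¹)⁻¹ by group]
    exact inv_mem (ha.2 g hg)⟩

/-- `Ev v` is conjugate in `N(S)` to an essential subgroup. -/
def Good' (S : Sylow 2 G) (A : Subgroup G) (v : G) : Prop :=
  v ∈ (S : Subgroup G) ∧ v ∉ A ∧ ∃ n ∈ Subgroup.normalizer ((S : Subgroup G) : Set G),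
    (groupFusionSystem (S : Subgroup G)).IsEssential 2 (Ev S (n * v * n⁻¹))

variable (hall : ∀ n ∈ Subgroup.normalizer (A : Set G), n * k * n⁻¹ ∈ SmallCentre.cen (S : Subgroup G))

include hall

theorem Dat.cenS (h : Dat S A k y r) {n : G} (hn : n ∈ Subgroup.normalizer ((S : Subgroup G) : Set G)) : h.Cen n :=
  h.cen_of_k (h.toCfg.normalizer_le hn) (hall n (h.toCfg.normalizer_le hn))

theorem Dat.map_Ev (h : Dat S A k y r) {n : G} (hn : n ∈ Subgroup.normalizer ((S : Subgroup G) : Set G)) (v : G) :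
    (Ev S v).map (MulAut.conj n).toMonoidHom = Ev S (n * v * n⁻¹) := by
  rw [Ev, Ev, Subgroup.map_sup, MonoidHom.map_zpowers]
  congr 1
  refine le_antisymm ?_ fun z hz => ?_
  · rintro _ ⟨z, hz, rfl⟩
    exact (h.cenS hall hn).mem_Z hz
  · refine ⟨n⁻¹ * z * n, ?_, by show n * (n⁻¹ * z * n) * n⁻¹ = z; group⟩
    have := (h.cenS hall hn).inv.mem_Z hz
    rwa [inv_inv] at this

theorem Dat.conj_Kv (h : Dat S A k y r) {n : G} (hn : n ∈ Subgroup.normalizer ((S : Subgroup G) : Set G)) {v z : G}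
    (hz : z ∈ Kv S v) : n * z * n⁻¹ ∈ Kv S (n * v * n⁻¹) := by
  refine ⟨(h.cenS hall hn).mem_Z hz.1, fun g hg => ?_⟩
  have hg' : n⁻¹ * g * n ∈ Subgroup.normalizer (Ev S v : Set G) := by
    rw [← h.map_Ev hall hn v, ← Subgroup.map_normalizer_eq_of_bijective _ (MulAut.conj n).bijective] at hg
    obtain ⟨g₀, hg₀, rfl⟩ := hg
    rwa [show n⁻¹ * (MulAut.conj n).toMonoidHom g₀ * n = g₀ by
      show n⁻¹ * (n * g₀ * n⁻¹) * n = g₀
      group]
  have := (h.cenS hall hn).mem_Z (hz.2 _ hg')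
  rwa [show n * (n⁻¹ * g * n * z * (n⁻¹ * g * n)⁻¹) * n⁻¹ = g * (n * z * n⁻¹) * g⁻¹ by group] at this

theorem Dat.good_conj (h : Dat S A k y r) {n : G} (hn : n ∈ Subgroup.normalizer ((S : Subgroup G) : Set G)) {v : G}
    (hv : Good' S A v) : Good' S A (n * v * n⁻¹) := by
  obtain ⟨hvS, hvA, m, hm, hess⟩ := hv
  refine ⟨(Subgroup.mem_normalizer_iff.mp hn v).mp hvS,
    fun hh => hvA ((Subgroup.mem_normalizer_iff.mp (h.toCfg.normalizer_le hn) v).mpr hh),
    m * n⁻¹, mul_mem hm (inv_mem hn), ?_⟩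
  rwa [show m * n⁻¹ * (n * v * n⁻¹) * (m * n⁻¹)⁻¹ = m * v * m⁻¹ by group]

/-- The common part of the `Kv`. -/
def Wk (S : Sylow 2 G) (A : Subgroup G) : Subgroup G where
  carrier := {z | z ∈ SmallCentre.cen (S : Subgroup G) ∧ ∀ v, Good' S A v → z ∈ Kv S v}
  one_mem' := ⟨one_mem _, fun v _ => one_mem _⟩
  mul_mem' := fun {a b} ha hb => ⟨mul_mem ha.1 hb.1, fun v hv => mul_mem (ha.2 v hv) (hb.2 v hv)⟩
  inv_mem' := fun {a} ha => ⟨inv_mem ha.1, fun v hv => inv_mem (ha.2 v hv)⟩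

theorem Dat.conj_Wk (h : Dat S A k y r) {n : G} (hn : n ∈ Subgroup.normalizer ((S : Subgroup G) : Set G)) {z : G}
    (hz : z ∈ Wk S A) : n * z * n⁻¹ ∈ Wk S A := by
  refine ⟨(h.cenS hall hn).mem_Z hz.1, fun v hv => ?_⟩
  have := h.conj_Kv hall hn (hz.2 _ (h.good_conj hall (inv_mem hn) hv))
  rwa [show n * (n⁻¹ * v * n⁻¹⁻¹) * n⁻¹ = v by group] at this

omit hall in
/-- In an essential `Ev v` the part fixed by two axes is kept central. -/
theorem Dat.mem_Kv_of_axes (h : Dat S A k y r) {E : Subgroup G} {x : G}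
    (hE : (groupFusionSystem (S : Subgroup G)).IsEssential 2 E) (hEx : E = Ev S x) {c : MulAut E} {k' : E}
    (htv : TV 2 ((groupFusionSystem (S : Subgroup G)).autGroup E) c
      ((SmallCentre.cen (S : Subgroup G)).subgroupOf E) k') {φ : MulAut E}
    (hφ : φ ∈ (groupFusionSystem (S : Subgroup G)).autGroup E)
    (hZ : ((SmallCentre.cen (S : Subgroup G)).subgroupOf E).map φ.toMonoidHom ≠
      (SmallCentre.cen (S : Subgroup G)).subgroupOf E)
    {w : E} (hw : w ∈ (SmallCentre.cen (S : Subgroup G)).subgroupOf E ⊓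
      ((SmallCentre.cen (S : Subgroup G)).subgroupOf E).map φ.toMonoidHom) : (w : G) ∈ Kv S x := by
  haveI : Finite E := finite_of_le hE.1.1
  haveI : Fact (2 = 2) := ⟨rfl⟩
  refine ⟨hw.1, fun g hg => ?_⟩
  rw [← hEx] at hg
  let ψ : MulAut E := E.normalizerMonoidHom ⟨g, hg⟩
  have hψ : ψ ∈ (groupFusionSystem (S : Subgroup G)).autGroup E := by
    rw [autGroup_groupFusionSystem hE.1.1]
    exact mem_autInducedBy_iff.mpr ⟨g, trivial, hg, fun _ => rfl⟩
  obtain ⟨χ, -, hχZ, hχfix, -, -⟩ := htv.exists_small hφ hZ (inv_mem hψ)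
  have : w ∈ ((SmallCentre.cen (S : Subgroup G)).subgroupOf E).map ψ⁻¹.toMonoidHom := by
    rw [← hχZ]
    exact ⟨w, hw.1, hχfix w hw⟩
  obtain ⟨w', hw', he⟩ := this
  have e : ψ w = w' := by
    rw [← show ψ⁻¹ w' = w from he, MulAut.apply_inv_self]
  show ((ψ w : E) : G) ∈ _
  rw [e]
  exact hw'

/-- With trivial core the common part is trivial. -/
theorem Dat.Wk_eq_bot (h : Dat S A k y r) (hcore : (groupFusionSystem (S : Subgroup G)).core = ⊥) :
    Wk S A = ⊥ := by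
  haveI : Fact (2 = 2) := ⟨rfl⟩
  set F := groupFusionSystem (S : Subgroup G) with hF
  refine h.hyp0.sat.eq_bot_of_invariant S.2 hcore (fun z hz => hz.1.1) (fun α hα z hz => ?_) fun E hE => ?_
  · rw [autGroup_groupFusionSystem le_rfl] at hα
    obtain ⟨g, -, hgN, hge⟩ := mem_autInducedBy_iff.mp hα
    rw [hge]
    exact h.conj_Wk hall hgN hz
  refine ⟨fun z hz => h.hyp0.cen_le_ess hE hz.1, fun α hα z hz => ?_⟩
  haveI : Finite E := finite_of_le hE.1.1
  have hext : ∀ γ ∈ F.autGroup (S : Subgroup G), ∀ w : (S : Subgroup G), (w : G) ∈ Wk S A →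
      ((γ w : (S : Subgroup G)) : G) ∈ Wk S A := by
    intro γ hγ w hw
    rw [autGroup_groupFusionSystem le_rfl] at hγ
    obtain ⟨g, -, hgN, hge⟩ := mem_autInducedBy_iff.mp hγ
    rw [hge]
    exact h.conj_Wk hall hgN hw
  have hEA : E ≠ A := by
    intro e
    rw [e] at hE
    have hyN : y ∈ Subgroup.normalizer (A : Set G) := h.toCfg.le_normalizer h.hy
    let σ : MulAut A := A.normalizerMonoidHom ⟨y, hyN⟩
    have hσA : σ ∈ F.autGroup A := autInducedBy_le_autGroup h.le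
      (mem_autInducedBy_iff.mpr ⟨y, h.hy, hyN, fun _ => rfl⟩)
    have hσS : σ ∈ autInducedBy (S : Subgroup G) A := mem_autInducedBy_iff.mpr ⟨y, h.hy, hyN, fun _ => rfl⟩
    set P := (Subgroup.zpowers σ).subgroupOf (F.autGroup A) with hP
    haveI hn : P.Normal := ⟨fun a ha g => by
      obtain ⟨n, -, hnN, hne⟩ := mem_autInducedBy_iff.mp (autGroup_groupFusionSystem h.le ▸ g.2 :
        (g : MulAut A) ∈ autInducedBy ⊤ A)
      have hcom : Commute (g : MulAut A) σ := MulEquiv.ext fun b => Subtype.ext (by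
        show (((g : MulAut A) (σ b) : A) : G) = y * ((g : MulAut A) b : A) * y⁻¹
        rw [hne, hne]
        exact (h.cen_of_k hnN (hall n hnN)).2 b b.2)
      obtain ⟨i, hi⟩ := Subgroup.mem_subgroupOf.mp ha
      refine Subgroup.mem_subgroupOf.mpr ⟨i, ?_⟩
      push_cast
      rw [← show σ ^ i = (a : MulAut A) from hi, (hcom.zpow_right i).eq, mul_inv_cancel_right]⟩
    have hPp : IsPGroup 2 P := ((isPGroup_autInducedBy S.2).to_le (Subgroup.zpowers_le.mpr hσS)).comap_of_injective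
      (F.autGroup A).subtype Subtype.coe_injective
    have h1 : σ ∈ Inn A := by
      rw [← (hE.isRadical S.2 h.hyp0.sat).2]
      exact ⟨⟨σ, hσA⟩, le_sSup (show P ∈ {Q : Subgroup (F.autGroup A) | Q.Normal ∧ IsPGroup 2 Q} from ⟨hn, hPp⟩)
        (Subgroup.mem_subgroupOf.mpr (Subgroup.mem_zpowers σ)), rfl⟩
    obtain ⟨a, ha⟩ := h1
    refine h.not_fix_all fun b hb => ?_
    have := congrArg (fun f : MulAut A => ((f ⟨b, hb⟩ : A) : G)) ha
    change (a : G) * b * (a : G)⁻¹ = y * b * y⁻¹ at this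
    rw [← this, h.comm_mem a.2 hb, mul_inv_cancel_right]
  rcases h.hyp0.typeH_or hE hEA with hH | ⟨-, hna⟩
  · obtain ⟨x, hx, hxA, hEx⟩ := id hH
    have hgood : Good' S A x := ⟨hx, hxA, 1, one_mem _, by
      rw [one_mul, inv_one, mul_one, Ev, ← hEx]
      exact hE⟩
    obtain ⟨c, k', -, -, -, htv⟩ := h.hyp0.exists_tv hE hH
    obtain ⟨φ, hφ, hZ⟩ := htv.exists_moving
    have hin : ∀ w : E, (w : G) ∈ Wk S A → w ∈ (SmallCentre.cen (S : Subgroup G)).subgroupOf E ⊓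
        ((SmallCentre.cen (S : Subgroup G)).subgroupOf E).map φ.toMonoidHom := by
      intro w hw
      refine ⟨hw.1, φ⁻¹ w, ?_, MulAut.apply_inv_self _ _ _⟩
      obtain ⟨g, -, hgN, hge⟩ := mem_autInducedBy_iff.mp (autGroup_groupFusionSystem hE.1.1 ▸ inv_mem hφ :
        φ⁻¹ ∈ autInducedBy ⊤ E)
      show ((φ⁻¹ w : E) : G) ∈ ZS
      rw [hge]
      exact (hw.2 x hgood).2 g (by rwa [Ev, ← hEx])
    obtain ⟨χ, hχ, hχZ, hχfix, -, -⟩ := htv.exists_small hφ hZ hα
    have hψ₀ : χ⁻¹ * α ∈ F.autGroup E := mul_mem (inv_mem hχ) hα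
    have hψZ : ((SmallCentre.cen (S : Subgroup G)).subgroupOf E).map (χ⁻¹ * α).toMonoidHom =
        (SmallCentre.cen (S : Subgroup G)).subgroupOf E := by
      rw [show (χ⁻¹ * α).toMonoidHom = χ⁻¹.toMonoidHom.comp α.toMonoidHom from rfl, ← Subgroup.map_map, ← hχZ,
        Subgroup.map_map, show χ⁻¹.toMonoidHom.comp χ.toMonoidHom = MonoidHom.id E from
          MonoidHom.ext fun e => MulAut.inv_apply_self _ χ e, Subgroup.map_id]
    obtain ⟨β, hβ, hβe⟩ := exists_extend_cen h.hyp0 hE hH hψ₀ hψZ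
    set z' := (χ⁻¹ * α) z with hz'
    have hz'W : (z' : G) ∈ Wk S A := by
      have := hext β hβ ⟨z, hE.1.1 z.2⟩ hz
      rwa [hβe ⟨z, hE.1.1 z.2⟩ hz.1 z.2] at this
    have : α z = z' := by
      rw [← hχfix z' (hin z' hz'W), hz', MulAut.mul_apply, MulAut.apply_inv_self]
    rwa [this]
  · obtain ⟨γ, hγ, hγe⟩ := h.hyp0.cenExt ((F.mem_autGroup_iff hE.1.1).mp hα) hna
    rw [show ((α z : E) : G) = γ ⟨z, hE.1.1 z.2⟩ from (hγe ⟨z, hE.1.1 z.2⟩ hz.1).2 z.2]
    exact hext γ hγ _ hz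

/-- Each good class keeps a subgroup of index two of the centre. -/
theorem Dat.Kv_index (h : Dat S A k y r) {v : G} (hv : Good' S A v) {z : G} (hz : z ∈ ZS) :
    z ∈ Kv S v ∨ z * k ∈ Kv S v := by
  obtain ⟨hvS, hvA, n, hn, hess⟩ := hv
  set x := n * v * n⁻¹ with hx
  have hH : TypeH (S : Subgroup G) A (Ev S x) := ⟨x, (Subgroup.mem_normalizer_iff.mp hn v).mp hvS,
    fun hh => hvA ((Subgroup.mem_normalizer_iff.mp (h.toCfg.normalizer_le hn) v).mpr hh), rfl⟩
  obtain ⟨c, k', -, hK, hko, htv⟩ := h.hyp0.exists_tv hess hH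
  haveI : Finite ↥(Ev S x) := finite_of_le hess.1.1
  obtain ⟨φ, hφ, hZ⟩ := htv.exists_moving
  have hz' : n * z * n⁻¹ ∈ ZS := (h.cenS hall hn).mem_Z hz
  obtain ⟨w, hw, i, hi⟩ := htv.decomp hφ hZ (z := ⟨_, Subgroup.mem_sup_left hz'⟩) hz'
  have hwK := h.mem_Kv_of_axes hess rfl htv hφ hZ hw
  have e := congrArg Subtype.val hi
  push_cast at e
  have hk'2 : (k' : G) * k' = 1 := by rw [← pow_two, ← hko, pow_orderOf_eq_one]
  have hkk : (k' : G) = k := by
    have : k ∈ Subgroup.zpowers (k' : G) := hK ▸ ⟨h.kZ, h.kD⟩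
    obtain ⟨j, hj⟩ := this
    rcases zpow_of_sq hk'2 j with e | e
    · exact absurd (hj.symm.trans e) h.k1
    · exact (hj.symm.trans e).symm
  have back : ∀ u, n * u * n⁻¹ ∈ Kv S x → u ∈ Kv S v := fun u hu => by
    have := h.conj_Kv hall (inv_mem hn) hu
    rwa [show n⁻¹ * (n * u * n⁻¹) * n⁻¹⁻¹ = u by group,
      show n⁻¹ * x * n⁻¹⁻¹ = v by rw [hx]; group] at this
  rw [hkk] at e
  rcases zpow_of_sq h.k2 i with e' | e' <;> rw [e'] at e
  · left
    refine back z ?_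
    rw [e, mul_one]; exact hwK
  · right
    refine back _ ?_
    rw [show n * (z * k) * n⁻¹ = n * z * n⁻¹ * (n * k * n⁻¹) by group, (h.cenS hall hn).fix_k, e, mul_assoc, h.k2,
      mul_one]
    exact hwK

/-- There are at most two classes of subgroups `Ev v`. -/
theorem Dat.reps (h : Dat S A k y r) {v : G} (hv : Good' S A v) {z : G} (hz : z ∈ ZS)
    (hy' : Good' S A y → z ∈ Kv S y) (hry : Good' S A (r * y) → z ∈ Kv S (r * y)) : z ∈ Kv S v := by
  have hvA := hv.2.1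
  have hmul : v * y⁻¹ ∈ A := by
    have := (Subgroup.mul_mem_iff_of_index_two h.idx
      (a := (⟨v, hv.1⟩ : (S : Subgroup G))) (b := ⟨y⁻¹, inv_mem h.hy⟩)).mpr
      ⟨fun h1 => absurd h1 hvA, fun h1 => absurd ((inv_mem_iff (H := A)).mp h1) h.hyA⟩
    exact this
  obtain ⟨i, hi⟩ := h.gen _ hmul
  -- `v` is a central multiple of a conjugate of one of the two representatives
  have key : ∀ (w : G), (Good' S A w → z ∈ Kv S w) → ∀ j : ℤ, ∀ c ∈ ZS,
      v = c * (r ^ j * w * (r ^ j)⁻¹) → z ∈ Kv S v := by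
    intro w hw j c hc hvw
    have hjN : r ^ j ∈ Subgroup.normalizer ((S : Subgroup G) : Set G) :=
      Subgroup.le_normalizer (zpow_mem (h.le h.hr) j)
    have hEv : Ev S v = Ev S (r ^ j * w * (r ^ j)⁻¹) := by
      rw [Ev, Ev, hvw]
      refine le_antisymm (sup_le le_sup_left (Subgroup.zpowers_le.mpr ?_))
        (sup_le le_sup_left (Subgroup.zpowers_le.mpr ?_))
      · exact Subgroup.mul_mem_sup hc (Subgroup.mem_zpowers _)
      · have := Subgroup.mul_mem (H := ZS ⊔ Subgroup.zpowers (c * (r ^ j * w * (r ^ j)⁻¹)))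
          (Subgroup.mem_sup_left (inv_mem hc)) (Subgroup.mem_sup_right (Subgroup.mem_zpowers _))
        rwa [inv_mul_cancel_left] at this
    have hgood : Good' S A w := by
      have hg' : Good' S A (r ^ j * w * (r ^ j)⁻¹) := by
        obtain ⟨hvS, -, n, hn, hess⟩ := hv
        have hu : r ^ j * w * (r ^ j)⁻¹ = c⁻¹ * v := by rw [hvw, inv_mul_cancel_left]
        refine ⟨hu ▸ mul_mem (inv_mem hc.1) hvS, fun hh => hvA ?_, n, hn, ?_⟩
        · rw [hu] at hh
          exact (A.mul_mem_cancel_left (A.inv_mem (h.Z_le hc))).mp hh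
        · rwa [← h.map_Ev hall hn, ← hEv, h.map_Ev hall hn]
      have := h.good_conj hall (inv_mem hjN) hg'
      rwa [show (r ^ j)⁻¹ * (r ^ j * w * (r ^ j)⁻¹) * (r ^ j)⁻¹⁻¹ = w by group] at this
    have hK := h.conj_Kv hall hjN (hw hgood)
    rw [show r ^ j * z * (r ^ j)⁻¹ = z by
      rw [cen_comm hz (zpow_mem (h.le h.hr) j), mul_inv_cancel_right]] at hK
    exact ⟨hz, fun g hg => hK.2 g (hEv ▸ hg)⟩
  obtain ⟨j, rfl | rfl⟩ := Int.even_or_odd' i
  · refine key y hy' j (v * y⁻¹ * (r ^ (2 * j))⁻¹ * (r ^ j * (y * r ^ j * y⁻¹)))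
      (mul_mem hi (h.norm_mem (A.zpow_mem h.hr j))) ?_
    have hc := h.comm_mem (h.conj_A (A.zpow_mem h.hr j)) (A.zpow_mem h.hr j)
    rw [show v * y⁻¹ * (r ^ (2 * j))⁻¹ * (r ^ j * (y * r ^ j * y⁻¹)) * (r ^ j * y * (r ^ j)⁻¹) =
      v * y⁻¹ * ((r ^ j)⁻¹ * (y * r ^ j * y⁻¹ * r ^ j)) * y * (r ^ j)⁻¹ by group, hc]
    group
  · refine key (r * y) hry j (v * y⁻¹ * (r ^ (2 * j + 1))⁻¹ * (r ^ j * (y * r ^ j * y⁻¹)))
      (mul_mem hi (h.norm_mem (A.zpow_mem h.hr j))) ?_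
    have hc := h.comm_mem (h.conj_A (A.zpow_mem h.hr j)) (A.zpow_mem h.hr (j + 1))
    rw [show v * y⁻¹ * (r ^ (2 * j + 1))⁻¹ * (r ^ j * (y * r ^ j * y⁻¹)) * (r ^ j * (r * y) * (r ^ j)⁻¹) =
      v * y⁻¹ * ((r ^ (j + 1))⁻¹ * (y * r ^ j * y⁻¹ * r ^ (j + 1))) * y * (r ^ j)⁻¹ by group, hc]
    group

/-- The centre has order at most four. -/
theorem Dat.card_cen_le (h : Dat S A k y r) (hcore : (groupFusionSystem (S : Subgroup G)).core = ⊥) :
    Nat.card ↥(SmallCentre.cen (S : Subgroup G)) ≤ 4 := by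
  classical
  let P : G → G → Prop := fun v z => Good' S A v → z ∈ Kv S v
  have hP : ∀ v, ∀ z ∈ ZS, P v z ∨ P v (z * k) := fun v z hz => by
    by_cases hv : Good' S A v
    · exact (h.Kv_index hall hv hz).imp (fun hh _ => hh) (fun hh _ => hh)
    · exact Or.inl fun hh => absurd hh hv
  have hsub : ∀ v, ∀ z ∈ ZS, ∀ z' ∈ ZS, (P v z ↔ P v z') → P v (z * z'⁻¹) := by
    intro v z hz z' hz' hiff hgood
    by_cases hpz : P v z
    · exact mul_mem (hpz hgood) (inv_mem (hiff.mp hpz hgood))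
    · have h1 := ((hP v z hz).resolve_left hpz) hgood
      have h2 := ((hP v z' hz').resolve_left fun hh => hpz (hiff.mpr hh)) hgood
      have := mul_mem h1 (inv_mem h2)
      rwa [show z * k * (z' * k)⁻¹ = z * z'⁻¹ by group] at this
  have hW := h.Wk_eq_bot hall hcore
  refine le_of_le_of_eq (Nat.card_le_card_of_injective
    (fun z : ↥ZS => ((decide (P y z) : Bool), (decide (P (r * y) z) : Bool))) fun a b e => ?_)
    (by rw [Nat.card_eq_fintype_card]; rfl : Nat.card (Bool × Bool) = 4)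
  simp only [Prod.mk.injEq, decide_eq_decide] at e
  have hm : (a : G) * (b : G)⁻¹ ∈ Wk S A := ⟨mul_mem a.2 (inv_mem b.2), fun v hv =>
    h.reps hall hv (mul_mem a.2 (inv_mem b.2)) (hsub y a a.2 b b.2 e.1) (hsub (r * y) a a.2 b b.2 e.2)⟩
  rw [hW, Subgroup.mem_bot, mul_inv_eq_one] at hm
  exact Subtype.ext hm

end CfsgLib.ONanTwo.Fusion
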