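import Cfsg.Agent.Lib.ONanTwo.Fusion.Moving
import Cfsg.Agent.Lib.ONanTwo.Fusion.Central
import Cfsg.Agent.Lib.Fusion.RankTwoSimple
import Cfsg.Agent.Lib.AlmostCyclic.SylowTypes

/-!
A simple group whose Sylow 2-subgroup has an abelian subgroup of index two and centre of index above four has
2-rank at most two.

Blueprint: `blueprint/S3402.md`, part A.
-/

set_option autoImplicit false
set_option linter.unusedSectionVars false
set_option linter.style.haveILetI false

open scoped commutatorElement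

namespace CfsgLib.ONanTwo.Fusion

open Cfsg Cfsg.FusionSystem Cfsg.AbelianIndex Cfsg.SmallCentre

variable {G : Type*} [Group G] [Finite G] [Fact (Nat.Prime 2)] {S : Sylow 2 G} {A : Subgroup G} {k y r : G}

local notation "ZS" => SmallCentre.cen (S : Subgroup G)

/-- The four central involutions stay apart under fusion in `A`. -/
theorem Dat.apart (h : Dat S A k y r) (hall : ∀ n ∈ Subgroup.normalizer (A : Set G), n * k * n⁻¹ ∈ ZS) {u : G}
    (hfour : ∀ z ∈ ZS, z = 1 ∨ z = k ∨ z = u ∨ z = u * k) (hu : u ∈ ZS) (huk : u ≠ k) (hu1 : u ≠ 1) {v w g : G}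
    (hv : v ∈ ZS) (hw : w ∈ A) (hg : g * v * g⁻¹ = w) : w = v := by
  obtain ⟨n, hn, hnv⟩ := h.toCfg.fusion (h.Z_le hv) hw hg
  have hC : ∀ m ∈ Subgroup.normalizer (A : Set G), h.Cen m := fun m hm => h.cen_of_k hm (hall m hm)
  have htwo : ∀ m ∈ Subgroup.normalizer (A : Set G), m * u * m⁻¹ = u ∨ m * u * m⁻¹ = u * k := by
    intro m hm
    rcases hfour _ ((hC m hm).mem_Z hu) with e | e | e | e
    · exact absurd (conj_eq_one_iff.mp e) hu1
    · exact absurd (mul_left_cancel (mul_right_cancel (e.trans (hC m hm).fix_k.symm))) huk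
    · exact Or.inl e
    · exact Or.inr e
  -- no element normalising `A` moves `u`
  suffices hfix : ∀ m ∈ Subgroup.normalizer (A : Set G), m * u * m⁻¹ = u by
    rcases hfour v hv with rfl | rfl | rfl | rfl
    · rw [← hnv, mul_one, mul_inv_cancel]
    · rw [← hnv, (hC n hn).fix_k]
    · rw [← hnv, hfix n hn]
    · rw [← hnv, show n * (u * k) * n⁻¹ = n * u * n⁻¹ * (n * k * n⁻¹) by group, hfix n hn, (hC n hn).fix_k]
  intro m hm
  by_contra hne
  have hm' := (htwo m hm).resolve_left hne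
  obtain ⟨e, o, ho, heo⟩ := Nat.exists_eq_two_pow_mul_odd (orderOf_pos m).ne'
  have hsq : m * m * u * (m * m)⁻¹ = u := by
    rw [show m * m * u * (m * m)⁻¹ = m * (m * u * m⁻¹) * m⁻¹ by group, hm',
      show m * (u * k) * m⁻¹ = m * u * m⁻¹ * (m * k * m⁻¹) by group, hm', (hC m hm).fix_k, mul_assoc, h.k2,
      mul_one]
  have hodd : ∀ i : ℕ, m ^ (2 * i + 1) * u * (m ^ (2 * i + 1))⁻¹ = u * k := by
    intro i
    induction i with
    | zero => simpa using hm'
    | succ i ih =>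
      rw [show 2 * (i + 1) + 1 = (2 * i + 1) + 2 by ring, pow_add, pow_two,
        show m ^ (2 * i + 1) * (m * m) * u * (m ^ (2 * i + 1) * (m * m))⁻¹ =
          m ^ (2 * i + 1) * (m * m * u * (m * m)⁻¹) * (m ^ (2 * i + 1))⁻¹ by group, hsq, ih]
  obtain ⟨i, rfl⟩ := ho
  set q := m ^ (2 * i + 1) with hq
  have hqN : q ∈ Subgroup.normalizer (A : Set G) := pow_mem hm _
  have hqp : IsPGroup 2 (Subgroup.zpowers (⟨q, hqN⟩ : Subgroup.normalizer (A : Set G))) := by
    have h2 : q ^ 2 ^ e = 1 := by rw [hq, ← pow_mul, mul_comm, ← heo, pow_orderOf_eq_one]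
    obtain ⟨j, -, hj⟩ := (Nat.dvd_prime_pow Nat.prime_two).mp (orderOf_dvd_of_pow_eq_one h2)
    exact IsPGroup.of_card (n := j) (by rw [Nat.card_zpowers, Subgroup.orderOf_mk, hj])
  obtain ⟨c, hc⟩ := exists_conj_mem_sylow (S.subtype h.toCfg.le_normalizer) hqp
  have hcS : (c : G) * q * (c : G)⁻¹ ∈ (S : Subgroup G) := by
    have := hc _ (Subgroup.mem_zpowers _)
    rw [Sylow.coe_subtype] at this
    exact this
  have hcu := (hC _ (inv_mem c.2)).mem_Z hu
  have hfx : ∀ z ∈ ZS, q * ((c : G)⁻¹ * z * (c : G)) * q⁻¹ = (c : G)⁻¹ * z * (c : G) := fun z hz => by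
    rw [show q * ((c : G)⁻¹ * z * (c : G)) * q⁻¹ =
      (c : G)⁻¹ * ((c : G) * q * (c : G)⁻¹ * z * ((c : G) * q * (c : G)⁻¹)⁻¹) * (c : G) by group,
      cen_comm hz hcS, mul_inv_cancel_right]
  have h1 := hfx _ ((hC _ c.2).mem_Z hu)
  rw [show (c : G)⁻¹ * ((c : G) * u * (c : G)⁻¹) * (c : G) = u by group, hodd i] at h1
  exact h.k1 (mul_eq_left.mp h1)

/-- An element of `A`, times `y`, conjugate to the given involution. -/
theorem Dat.exists_item [IsSimpleGroup G] (h : Dat S A k y r) (hns : ¬ Group.IsSolvable G) {v : G} (hv : v ∈ ZS)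
    (hv2 : v * v = 1) (hv1 : v ≠ 1) (hfix : ∀ w ∈ A, ∀ g : G, g * v * g⁻¹ = w → w = v) :
    ∃ a ∈ A, ∃ g : G, g * v * g⁻¹ = a * y := by
  have hni := CfsgLib.AlmostCyclic.no_isolated (G := G) hns v
  have hord : orderOf v = 2 := orderOf_eq_prime (by rw [pow_two, hv2]) hv1
  obtain ⟨g, hcm, hgne⟩ : ∃ g : G, Commute v (g * v * g⁻¹) ∧ g * v * g⁻¹ ≠ v := by
    by_contra hh
    push Not at hh
    exact hni ⟨hord, hh⟩
  set C := Subgroup.centralizer ({v} : Set G) with hC
  have hSC : (S : Subgroup G) ≤ C := fun s hs =>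
    Subgroup.mem_centralizer_singleton_iff.mpr (cen_comm hv hs)
  have hwC : g * v * g⁻¹ ∈ C := Subgroup.mem_centralizer_singleton_iff.mpr hcm.symm.eq
  have hp : IsPGroup 2 (Subgroup.zpowers (⟨_, hwC⟩ : C)) := IsPGroup.of_card (n := 1) (by
    rw [Nat.card_zpowers, Subgroup.orderOf_mk, pow_one, ← hord]
    exact (MulAut.conj g).orderOf_eq v)
  obtain ⟨c, hc⟩ := exists_conj_mem_sylow (S.subtype hSC) hp
  have hcS : (c : G) * (g * v * g⁻¹) * (c : G)⁻¹ ∈ (S : Subgroup G) := by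
    have := hc _ (Subgroup.mem_zpowers _)
    rw [Sylow.coe_subtype] at this
    exact this
  set w := (c : G) * (g * v * g⁻¹) * (c : G)⁻¹ with hw
  have hwv : ((c : G) * g) * v * ((c : G) * g)⁻¹ = w := by rw [hw]; group
  by_cases hwA : w ∈ A
  · refine absurd ?_ hgne
    have e := hfix w hwA _ hwv
    have hcv : (c : G) * v = v * (c : G) := Subgroup.mem_centralizer_singleton_iff.mp c.2
    rw [hw] at e
    calc g * v * g⁻¹ = (c : G)⁻¹ * ((c : G) * (g * v * g⁻¹) * (c : G)⁻¹) * (c : G) := by group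
      _ = v := by rw [e, mul_assoc, ← hcv, inv_mul_cancel_left]
  · refine ⟨w * y⁻¹, ?_, (c : G) * g, by rw [hwv, inv_mul_cancel_right]⟩
    exact (Subgroup.mul_mem_iff_of_index_two h.idx
      (a := (⟨w, hcS⟩ : (S : Subgroup G))) (b := ⟨y⁻¹, inv_mem h.hy⟩)).mpr
      ⟨fun h1 => absurd h1 hwA, fun h1 => absurd ((inv_mem_iff (H := A)).mp h1) h.hyA⟩

/-- The count: an involution of `S` outside `A` leads to a subgroup of index two. -/
theorem Dat.false_of_outer [IsSimpleGroup G] (h : Dat S A k y r)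
    (hall : ∀ n ∈ Subgroup.normalizer (A : Set G), n * k * n⁻¹ ∈ ZS) (hns : ¬ Group.IsSolvable G)
    (hcard : Nat.card ↥(SmallCentre.cen (S : Subgroup G)) ≤ 4) {u : G} (hu : u ∈ ZS) (hu2 : u * u = 1) (hu1 : u ≠ 1)
    (huk : u ≠ k) (hy2 : y * y = 1) : False := by
  classical
  have huk1 : u * k ≠ 1 := fun e => huk (by rw [eq_inv_of_mul_eq_one_left e, inv_eq_of_mul_eq_one_right h.k2])
  have hukk : u * k ≠ k := fun e => hu1 (mul_eq_right.mp e)
  have huku : u * k ≠ u := fun e => h.k1 (mul_eq_left.mp e)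
  have hfour : ∀ z ∈ ZS, z = 1 ∨ z = k ∨ z = u ∨ z = u * k := by
    intro z hz
    by_contra hh
    push Not at hh
    haveI := Fintype.ofFinite ↥ZS
    have h5 : ([⟨1, one_mem _⟩, ⟨k, h.kZ⟩, ⟨u, hu⟩, ⟨u * k, mul_mem hu h.kZ⟩, ⟨z, hz⟩] : List ↥ZS).Nodup := by
      simp [Subtype.ext_iff, huk, huk1.symm, hukk.symm, huku.symm, hh.1.symm, hh.2.1.symm, hh.2.2.1.symm,
        hh.2.2.2.symm, h.k1.symm, hu1.symm, Ne.symm huk]
    have := h5.length_le_card
    rw [Nat.card_eq_fintype_card] at hcard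
    simp at this
    omega
  have hcardZ : Nat.card ↥ZS = 4 := by
    haveI := Fintype.ofFinite ↥ZS
    have h4 : ([⟨1, one_mem _⟩, ⟨k, h.kZ⟩, ⟨u, hu⟩, ⟨u * k, mul_mem hu h.kZ⟩] : List ↥ZS).Nodup := by
      simp [Subtype.ext_iff, huk, huk1.symm, hukk.symm, huku.symm, h.k1.symm, hu1.symm, Ne.symm huk]
    have := h4.length_le_card
    rw [Nat.card_eq_fintype_card] at hcard ⊢
    simp at this
    omega
  have hapart : ∀ v ∈ ZS, ∀ w ∈ A, ∀ g : G, g * v * g⁻¹ = w → w = v := fun v hv w hw g hg =>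
    h.apart hall hfour hu huk hu1 hv hw hg
  -- the maps commutation and norm
  let N : A →* A :=
    { toFun := fun a => ⟨(a : G) * (y * a * y⁻¹), A.mul_mem a.2 (h.conj_A a.2)⟩
      map_one' := Subtype.ext (by simp)
      map_mul' := fun a b => Subtype.ext (by
        push_cast
        have hc := h.comm_mem b.2 (h.conj_A a.2)
        rw [show y * ((a : G) * b) * y⁻¹ = y * a * y⁻¹ * (y * b * y⁻¹) by group, mul_assoc (a : G),
          ← mul_assoc (b : G), hc]
        group) }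
  have hNval : ∀ a : A, (N a : G) = (a : G) * (y * a * y⁻¹) := fun a => rfl
  set D : Subgroup A := (delta h.hyp0 h.hy).range with hD
  have hDmem : ∀ {a : A}, (a : G) ∈ ⁅(S : Subgroup G), (S : Subgroup G)⁆ ↔ a ∈ D := by
    intro a
    rw [h.hyp0.commutator_eq h.hy h.hyA]
    exact ⟨fun ⟨b, hb, e⟩ => Subtype.ext e ▸ hb, fun hb => ⟨a, hb, rfl⟩⟩
  have hDN : D ≤ N.ker := by
    intro a ha
    refine Subtype.ext ?_
    rw [hNval, h.toCfg.inv_D h.hy h.hyA (hDmem.mpr ha), mul_inv_cancel, OneMemClass.coe_one]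
  have hkerδ : (delta h.hyp0 h.hy).ker = (SmallCentre.cen (S : Subgroup G)).subgroupOf A := by
    ext a
    refine ⟨fun ha => h.hyp0.mem_cen h.hy h.hyA a.2
      (commutatorElement_eq_one_iff_mul_comm.mp (congrArg Subtype.val ha)), fun ha => Subtype.ext ?_⟩
    exact commutatorElement_eq_one_iff_mul_comm.mpr (cen_comm (Subgroup.mem_subgroupOf.mp ha) h.hy).symm
  have hDidx : D.index = 4 := by
    have e1 := Subgroup.card_mul_index (delta h.hyp0 h.hy).ker
    rw [Subgroup.index_ker, hkerδ,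
      Nat.card_congr (Subgroup.subgroupOfEquivOfLe h.hyp0.cen_le_A).toEquiv, hcardZ] at e1
    have e2 := Subgroup.card_mul_index D
    rw [← e1, mul_comm 4] at e2
    exact Nat.eq_of_mul_eq_mul_left Nat.card_pos e2
  -- cosets modulo the commutator subgroup are classes
  have hclass : ∀ a b : A, a⁻¹ * b ∈ D → IsConj ((a : G) * y) ((b : G) * y) := by
    intro a b hab
    obtain ⟨t, ht⟩ := hab
    refine isConj_iff.mpr ⟨t, ?_⟩
    have e : (⁅(t : G), y⁆ : G) = (a : G)⁻¹ * b := congrArg Subtype.val ht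
    have hc := h.comm_mem t.2 a.2
    calc (t : G) * ((a : G) * y) * (t : G)⁻¹ = (t : G) * a * ((t : G)⁻¹ * ⁅(t : G), y⁆) * y := by
          rw [commutatorElement_def]; group
      _ = b * y := by rw [e, hc]; group
  have hitem : ∀ v ∈ ZS, v * v = 1 → v ≠ 1 → ∃ a : A, a ∈ N.ker ∧ IsConj v ((a : G) * y) := by
    intro v hv hv2 hv1
    obtain ⟨a, ha, g, hg⟩ := h.exists_item hns hv hv2 hv1 (hapart v hv)
    refine ⟨⟨a, ha⟩, Subtype.ext ?_, isConj_iff.mpr ⟨g, hg⟩⟩
    rw [hNval, OneMemClass.coe_one]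
    have := conj_sq (n := g) hv2
    rw [hg] at this
    rw [show y⁻¹ = y from inv_eq_of_mul_eq_one_right hy2]
    simpa [mul_assoc] using this
  set B := A ⧸ D
  haveI : D.Normal := ⟨fun a ha g => by
    rwa [show g * a * g⁻¹ = a from Subtype.ext (by push_cast; rw [h.comm_mem g.2 a.2, mul_inv_cancel_right])]⟩
  have hsep : ∀ {v w : G}, v ∈ ZS → w ∈ ZS → ∀ {a b : A}, IsConj v ((a : G) * y) → IsConj w ((b : G) * y) →
      (QuotientGroup.mk a : A ⧸ D) = QuotientGroup.mk b → v = w := by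
    intro v w hv hw a b ha hb e
    obtain ⟨g, hg⟩ := isConj_iff.mp ((ha.trans (hclass a b (QuotientGroup.eq.mp e))).trans hb.symm)
    exact (hapart v hv w (h.Z_le hw) g hg).symm
  have hukZ : u * k ∈ ZS := mul_mem hu h.kZ
  have huk2 : u * k * (u * k) = 1 := by
    rw [show u * k * (u * k) = u * (k * u) * k by group, (cen_comm h.kZ hu.1).symm,
      show u * (u * k) * k = u * u * (k * k) by group, hu2, h.k2, mul_one]
  obtain ⟨a₀, ha₀, hc₀⟩ := hitem k h.kZ h.k2 h.k1
  obtain ⟨a₁, ha₁, hc₁⟩ := hitem u hu hu2 hu1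
  obtain ⟨a₂, ha₂, hc₂⟩ := hitem (u * k) hukZ huk2 huk1
  -- outside `A` there are only involutions
  have hN1 : ∀ a : A, N a = 1 := by
    set D' := D.subgroupOf N.ker
    have h3 : 3 ≤ D'.index := by
      haveI := Fintype.ofFinite (↥N.ker ⧸ D')
      have hne : ∀ {v w : G}, v ∈ ZS → w ∈ ZS → v ≠ w → ∀ {a b : A} (ha : a ∈ N.ker) (hb : b ∈ N.ker),
          IsConj v ((a : G) * y) → IsConj w ((b : G) * y) →
          (QuotientGroup.mk ⟨a, ha⟩ : ↥N.ker ⧸ D') ≠ QuotientGroup.mk ⟨b, hb⟩ := fun hv hw hne a b ha hb hca hcb e =>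
        hne (hsep hv hw hca hcb ((QuotientGroup.eq (s := D)).mpr ((QuotientGroup.eq (s := D')).mp e)))
      have hnd : [(QuotientGroup.mk ⟨a₀, ha₀⟩ : ↥N.ker ⧸ D'), QuotientGroup.mk ⟨a₁, ha₁⟩,
          QuotientGroup.mk ⟨a₂, ha₂⟩].Nodup := by
        simp [hne h.kZ hu (Ne.symm huk) ha₀ ha₁ hc₀ hc₁, hne h.kZ hukZ hukk.symm ha₀ ha₂ hc₀ hc₂,
          hne hu hukZ huku.symm ha₁ ha₂ hc₁ hc₂]
      rw [Subgroup.index_eq_card, Nat.card_eq_fintype_card]
      simpa using hnd.length_le_card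
    have hmul : D'.index * N.ker.index = 4 := by
      rw [← hDidx]
      exact Subgroup.relIndex_mul_index hDN
    have h1 : N.ker.index = 1 := by
      by_contra hne
      have h0 : N.ker.index ≠ 0 := Subgroup.index_ne_zero_of_finite
      have := Nat.mul_le_mul h3 (show 2 ≤ N.ker.index by omega)
      omega
    intro a
    exact (Subgroup.index_eq_one.mp h1 ▸ Subgroup.mem_top a : a ∈ N.ker)
  have hinv : ∀ a ∈ A, y * a * y⁻¹ = a⁻¹ := fun a ha => by
    have := congrArg Subtype.val (hN1 ⟨a, ha⟩)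
    rw [hNval, OneMemClass.coe_one] at this
    exact eq_inv_of_mul_eq_one_right this
  have hsqD : ∀ a : A, a * a ∈ D := fun a => ⟨a, Subtype.ext (by
    rw [coe_delta, commutatorElement_def, show (a : G) * y * (a : G)⁻¹ * y⁻¹ = a * (y * (a : G)⁻¹ * y⁻¹) by group,
      hinv _ (A.inv_mem a.2), inv_inv]
    rfl)⟩
  -- one of `u`, `u * k` has one class outside `A`
  obtain ⟨v, hv, hv2, hv1, hvk, a, hva, honly⟩ : ∃ v ∈ ZS, v * v = 1 ∧ v ≠ 1 ∧ v ≠ k ∧ ∃ a : A,
      IsConj v ((a : G) * y) ∧ ∀ b : A, IsConj v ((b : G) * y) → (QuotientGroup.mk a : A ⧸ D) = QuotientGroup.mk b := by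
    by_contra hh
    push Not at hh
    obtain ⟨b₁, hd₁, hn₁⟩ := hh u hu hu2 hu1 huk a₁ hc₁
    obtain ⟨b₂, hd₂, hn₂⟩ := hh (u * k) hukZ huk2 huk1 hukk a₂ hc₂
    haveI := Fintype.ofFinite (A ⧸ D)
    have hne : ∀ {v w : G}, v ∈ ZS → w ∈ ZS → v ≠ w → ∀ {a b : A}, IsConj v ((a : G) * y) →
        IsConj w ((b : G) * y) → (QuotientGroup.mk a : A ⧸ D) ≠ QuotientGroup.mk b :=
      fun hv hw hne a b hca hcb e => hne (hsep hv hw hca hcb e)
    have hnd : [(QuotientGroup.mk a₀ : A ⧸ D), QuotientGroup.mk a₁, QuotientGroup.mk b₁, QuotientGroup.mk a₂,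
        QuotientGroup.mk b₂].Nodup := by
      simp [hne h.kZ hu (Ne.symm huk) hc₀ hc₁, hne h.kZ hu (Ne.symm huk) hc₀ hd₁,
        hne h.kZ hukZ hukk.symm hc₀ hc₂, hne h.kZ hukZ hukk.symm hc₀ hd₂, hn₁, hn₂,
        hne hu hukZ huku.symm hc₁ hc₂, hne hu hukZ huku.symm hc₁ hd₂, hne hu hukZ huku.symm hd₁ hc₂,
        hne hu hukZ huku.symm hd₁ hd₂]
    have := hnd.length_le_card
    rw [Subgroup.index_eq_card, Nat.card_eq_fintype_card] at hDidx
    simp at this
    omega
  -- a subgroup of index two without conjugates of `v`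
  set K : Subgroup A := D ⊔ Subgroup.zpowers ⟨r, h.hr⟩ with hK
  have hgen : ∀ b : A, ∃ c ∈ K, (b : G) * (c : G)⁻¹ ∈ ZS := fun b => by
    obtain ⟨i, hi⟩ := h.gen b b.2
    exact ⟨⟨r, h.hr⟩ ^ i, Subgroup.mem_sup_right (Subgroup.zpow_mem _ (Subgroup.mem_zpowers _) i), by
      push_cast; exact hi⟩
  have hkD : (⟨k, h.kA⟩ : A) ∈ D := hDmem.mp h.kD
  have hvA : v ∈ A := h.Z_le hv
  have hvD : (⟨v, hvA⟩ : A) ∉ D := fun hh => (h.kuniq v hv (hDmem.mpr hh)).elim hv1 hvk
  have hZK : ∀ z ∈ ZS, ∀ hzA : z ∈ A, (⟨z, hzA⟩ : A) ∈ D ∨ (⟨z, hzA⟩ : A) * ⟨v, hvA⟩ ∈ D := by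
    intro z hz hzA
    have hv' : v = u ∨ v = u * k := by
      rcases hfour v hv with e | e | e | e
      exacts [absurd e hv1, absurd e hvk, Or.inl e, Or.inr e]
    rcases hfour z hz with rfl | rfl | rfl | rfl
    · exact Or.inl D.one_mem
    · exact Or.inl hkD
    · right
      rcases hv' with rfl | rfl
      · rw [show (⟨v, hzA⟩ : A) * ⟨v, hvA⟩ = 1 from Subtype.ext hu2]; exact D.one_mem
      · rw [show (⟨z, hzA⟩ : A) * ⟨z * k, hvA⟩ = ⟨k, h.kA⟩ from Subtype.ext (by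
          show z * (z * k) = k
          rw [← mul_assoc, hu2, one_mul])]
        exact hkD
    · right
      rcases hv' with rfl | rfl
      · rw [show (⟨v * k, hzA⟩ : A) * ⟨v, hvA⟩ = ⟨k, h.kA⟩ from Subtype.ext (by
          show v * k * v = k
          rw [mul_assoc, h.comm_mem h.kA hvA, ← mul_assoc, hu2, one_mul])]
        exact hkD
      · rw [show (⟨u * k, hzA⟩ : A) * ⟨u * k, hvA⟩ = 1 from Subtype.ext huk2]; exact D.one_mem
  have hKhalf : ∀ b : A, b ∈ K ∨ b * ⟨v, hvA⟩ ∈ K := fun b => by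
    obtain ⟨c, hc, hbc⟩ := hgen b
    have hKD : ∀ {d : A}, d ∈ D → d ∈ K := fun hd => Subgroup.mem_sup_left hd
    rcases hZK _ hbc (A.mul_mem b.2 (A.inv_mem c.2)) with e | e
    · exact Or.inl ((K.mul_mem_cancel_right (K.inv_mem hc)).mp
        (show b * c⁻¹ ∈ K from hKD e))
    · refine Or.inr ((K.mul_mem_cancel_right (K.inv_mem hc)).mp ?_)
      have e' : b * ⟨v, hvA⟩ * c⁻¹ = b * c⁻¹ * ⟨v, hvA⟩ := Subtype.ext (by
        push_cast
        rw [mul_assoc, h.comm_mem hvA (A.inv_mem c.2), ← mul_assoc])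
      rw [e']
      exact hKD e
  have hvK : (⟨v, hvA⟩ : A) ∉ K := by
    intro hh
    have hKle : K.index ≤ 2 := by
      rw [Subgroup.index_eq_card]
      refine le_trans (Nat.card_le_card_of_surjective
        (fun j : Fin 1 => ((QuotientGroup.mk (1 : A)) : A ⧸ K)) fun q => ?_) (by simp)
      obtain ⟨b, rfl⟩ := QuotientGroup.mk_surjective q
      refine ⟨0, QuotientGroup.eq.mpr ?_⟩
      rw [inv_one, one_mul]
      exact (hKhalf b).elim id fun e => (K.mul_mem_cancel_right hh).mp e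
    have hKtop : K = ⊤ := (Subgroup.eq_top_iff' K).mpr fun b =>
      (hKhalf b).elim id fun e => (K.mul_mem_cancel_right hh).mp e
    -- `A/D` would be cyclic, of exponent two
    have h2 : D.index ≤ 2 := by
      rw [Subgroup.index_eq_card]
      refine le_trans (Nat.card_le_card_of_surjective
        (fun j : Fin 2 => ((QuotientGroup.mk ((⟨r, h.hr⟩ : A) ^ (j : ℕ))) : A ⧸ D)) fun q => ?_) (by simp)
      obtain ⟨b, rfl⟩ := QuotientGroup.mk_surjective q
      have hbK : b ∈ K := hKtop ▸ Subgroup.mem_top b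
      obtain ⟨d, hd, _, ⟨i, rfl⟩, rfl⟩ := Subgroup.mem_sup_of_normal_left.mp hbK
      set R : A := ⟨r, h.hr⟩ with hR
      refine ⟨⟨(i % 2).toNat, by omega⟩, ?_⟩
      rw [QuotientGroup.mk_mul, (QuotientGroup.eq_one_iff d).mpr hd, one_mul, QuotientGroup.eq]
      show (R ^ (i % 2).toNat)⁻¹ * R ^ i ∈ D
      rw [← zpow_natCast R (i % 2).toNat, Int.toNat_of_nonneg (by omega), ← zpow_neg, ← zpow_add,
        show -(i % 2) + i = 2 * (i / 2) by omega, zpow_mul, zpow_two]
      exact D.zpow_mem (hsqD R) _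
    omega
  -- the subgroup
  set w := v * ((a : G) * y) with hw
  set H := K.map A.subtype ⊔ Subgroup.zpowers w with hH
  have hwS : w ∈ (S : Subgroup G) := mul_mem (h.le hvA) (mul_mem (h.le a.2) h.hy)
  have hwA : w ∉ A := fun hh => h.hyA ((A.mul_mem_cancel_left a.2).mp ((A.mul_mem_cancel_left hvA).mp hh))
  have hwinv : ∀ b ∈ A, w * b * w⁻¹ = b⁻¹ := fun b hb => by
    rw [hw, show v * ((a : G) * y) * b * (v * ((a : G) * y))⁻¹ =
      (v * (a : G)) * (y * b * y⁻¹) * (v * (a : G))⁻¹ by group, hinv b hb,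
      h.comm_mem (A.mul_mem hvA a.2) (A.inv_mem hb), mul_inv_cancel_right]
  have hw2 : w * w = 1 := by
    rw [show w * w = v * (a : G) * (y * (v * (a : G)) * y⁻¹) * (y * y) by rw [hw]; group,
      hinv _ (A.mul_mem hvA a.2), mul_inv_cancel, hy2, one_mul]
  have hHle : H ≤ (S : Subgroup G) :=
    sup_le ((Subgroup.map_subtype_le _).trans h.le) (Subgroup.zpowers_le.mpr hwS)
  have hnorm : Subgroup.zpowers w ≤ Subgroup.normalizer (K.map A.subtype : Set G) := by
    rw [Subgroup.zpowers_le]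
    have hk : ∀ b ∈ K.map A.subtype, w * b * w⁻¹ ∈ K.map A.subtype := by
      rintro _ ⟨b, hb, rfl⟩
      show w * (b : G) * w⁻¹ ∈ K.map A.subtype
      rw [hwinv _ b.2]
      exact inv_mem (Subgroup.mem_map_of_mem A.subtype hb)
    refine Subgroup.mem_normalizer_iff.mpr fun b => ⟨hk b, fun hb => ?_⟩
    have := hk _ hb
    rwa [show w * (w * b * w⁻¹) * w⁻¹ = w * w * b * (w * w)⁻¹ by group, hw2, one_mul, inv_one, mul_one] at this
  have hHmem : ∀ x ∈ H, (∃ b ∈ K, x = (b : G)) ∨ ∃ b ∈ K, x = (b : G) * w := by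
    intro x hx
    obtain ⟨_, ⟨b, hb, rfl⟩, _, ⟨i, rfl⟩, rfl⟩ := exists_mul_of_mem_sup hnorm hx
    rcases zpow_of_sq hw2 i with e | e
    · exact Or.inl ⟨b, hb, by show (b : G) * w ^ i = b; rw [e, mul_one]⟩
    · exact Or.inr ⟨b, hb, by show (b : G) * w ^ i = b * w; rw [e]⟩
  have hHA : ∀ b : A, (b : G) ∈ H → b ∈ K := fun b hb => by
    rcases hHmem _ hb with ⟨c, hc, e⟩ | ⟨c, hc, e⟩
    · exact Subtype.ext e ▸ hc
    · exact absurd ((A.mul_mem_cancel_left c.2).mp (e ▸ b.2)) hwA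
  have hvH : v ∉ H := fun hh => hvK (hHA ⟨v, hvA⟩ hh)
  have hout : ∀ b : A, (QuotientGroup.mk a : A ⧸ D) = QuotientGroup.mk b → (b : G) * y ∉ H := by
    intro b hb hh
    rcases hHmem _ hh with ⟨c, hc, e⟩ | ⟨c, hc, e⟩
    · exact h.hyA ((A.mul_mem_cancel_left b.2).mp (e ▸ c.2))
    · have e2 : b = c * ⟨v, hvA⟩ * a := Subtype.ext (by
        push_cast
        have := e
        rw [hw] at this
        exact mul_right_cancel (b := y) (this.trans (by group)))
      refine hvK ?_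
      have hd : a⁻¹ * b ∈ K := Subgroup.mem_sup_left (QuotientGroup.eq.mp hb)
      rw [e2, show a⁻¹ * (c * ⟨v, hvA⟩ * a) = c * ⟨v, hvA⟩ from Subtype.ext (by
        push_cast
        rw [h.comm_mem (A.mul_mem c.2 hvA) a.2, inv_mul_cancel_left])] at hd
      exact (K.mul_mem_cancel_left hc).mp hd
  have hHidx : (H.subgroupOf (S : Subgroup G)).index = 2 := by
    rw [Subgroup.index_eq_two_iff]
    refine ⟨⟨v, hv.1⟩, fun b => ?_⟩
    have hKH : ∀ {c : A}, c ∈ K → (c : G) ∈ H := fun hc => Subgroup.mem_sup_left (Subgroup.mem_map_of_mem _ hc)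
    have hor : (b : G) ∈ H ∨ (b : G) * v ∈ H := by
      by_cases hbA : (b : G) ∈ A
      · exact (hKhalf ⟨b, hbA⟩).imp hKH hKH
      · have hbw : (b : G) * w ∈ A := by
          have := (Subgroup.mul_mem_iff_of_index_two h.idx (a := b) (b := ⟨w, hwS⟩)).mpr
            ⟨fun h1 => absurd h1 hbA, fun h1 => absurd h1 hwA⟩
          exact this
        have hwH : w ∈ H := Subgroup.mem_sup_right (Subgroup.mem_zpowers w)
        rcases hKhalf ⟨_, hbw⟩ with e | e
        · left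
          have := mul_mem (hKH e) hwH
          rwa [show ((⟨(b : G) * w, hbw⟩ : A) : G) * w = b by
            show (b : G) * w * w = b
            rw [mul_assoc, hw2, mul_one]] at this
        · right
          have := mul_mem (hKH e) hwH
          rwa [show ((⟨(b : G) * w, hbw⟩ * ⟨v, hvA⟩ : A) : G) * w = (b : G) * v by
            show (b : G) * w * v * w = b * v
            rw [show (b : G) * w * v * w = b * (w * v * w⁻¹) * (w * w) by group, hwinv v hvA, hw2,
              inv_eq_of_mul_eq_one_right hv2, mul_one]] at this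
    rcases hor with hb | hb
    · exact Or.inr ⟨hb, fun hh => hvH ((H.mul_mem_cancel_left hb).mp hh)⟩
    · exact Or.inl ⟨hb, fun hh => hvH ((H.mul_mem_cancel_left hh).mp hb)⟩
  have hfree : ∀ g : G, g⁻¹ * v * g ∉ H := by
    intro g hh
    have hxS := hHle hh
    by_cases hxA : g⁻¹ * v * g ∈ A
    · have := hapart v hv _ hxA g⁻¹ (by group)
      exact hvH (this ▸ hh)
    · have hb : g⁻¹ * v * g * y⁻¹ ∈ A := (Subgroup.mul_mem_iff_of_index_two h.idx
        (a := (⟨_, hxS⟩ : (S : Subgroup G))) (b := ⟨y⁻¹, inv_mem h.hy⟩)).mpr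
        ⟨fun h1 => absurd h1 hxA, fun h1 => absurd ((inv_mem_iff (H := A)).mp h1) h.hyA⟩
      refine hout ⟨_, hb⟩ (honly ⟨_, hb⟩ (isConj_iff.mpr ⟨g⁻¹, ?_⟩)) (by simpa using hh)
      simp
  have hS4 : 4 ≤ Nat.card G := by
    have h1 := Subgroup.index_dvd_card ((SmallCentre.cen (S : Subgroup G)).subgroupOf (S : Subgroup G))
    have h2 := Nat.le_of_dvd Nat.card_pos h1
    have h3 := Subgroup.card_le_card_group (S : Subgroup G)
    have := h.big
    omega
  have hidx : H.index = 2 * (S : Subgroup G).index := by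
    have := Subgroup.relIndex_mul_index hHle
    rw [Subgroup.relIndex, hHidx] at this
    exact this.symm
  obtain ⟨L, hL, hL2⟩ := CfsgLib.RankTwoSimple.exists_index_two H hidx
    (Nat.odd_iff.mpr (Nat.two_dvd_ne_zero.mp S.not_dvd_index)) hv2 hfree
  exact CfsgLib.RankTwoSimple.not_index_two hS4 hL hL2

/-- A simple group with an abelian subgroup of index two in a Sylow 2-subgroup whose centre has index above four has
2-rank at most two. -/
theorem prankLE_two [IsSimpleGroup G] (h : Cfg S A) : PRankLE 2 2 G := by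
  have hnc : ¬ ∀ a b : G, a * b = b * a := fun hh => h.nonab ⟨⟨fun a b => Subtype.ext (hh a b)⟩⟩
  have hns : ¬ Group.IsSolvable G := fun hh => hnc fun a b => (IsSimpleGroup.comm_iff_isSolvable.mpr hh) a b
  have hperf : (S : Subgroup G) ≤ commutator G := by
    rcases (inferInstance : (commutator G).Normal).eq_bot_or_eq_top with e | e
    · exfalso
      refine hnc fun a b => commutatorElement_eq_one_iff_mul_comm.mp ?_
      rw [← Subgroup.mem_bot (G := G), ← e]
      exact Subgroup.commutator_mem_commutator (Subgroup.mem_top a) (Subgroup.mem_top b)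
    · rw [e]; exact le_top
  obtain ⟨k, y, r, d⟩ := h.exists_dat hperf
  refine d.prankLE fun z hz hz2 => ?_
  by_contra hh
  push Not at hh
  have hall : ∀ n ∈ Subgroup.normalizer (A : Set G), n * k * n⁻¹ ∈ ZS := fun n hn =>
    d.not_moving hz hz2 hh.1 hh.2 hn
  have hfixk : ∀ g : G, g * k * g⁻¹ = z → z = k := fun g hg => by
    obtain ⟨n, hn, hnk⟩ := h.fusion d.kA (d.Z_le hz) hg
    rw [← hnk, (d.cen_of_k hn (hall n hn)).fix_k]
  by_cases hcore : (groupFusionSystem (S : Subgroup G)).core = ⊥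
  swap
  · obtain ⟨g, hg⟩ := isConj_iff.mp (h.one_class hcore d.k2 d.k1 hz2 hh.1)
    exact hh.2 (hfixk g hg)
  have hcard := d.card_cen_le hall hcore
  -- some involution lies outside `A`
  obtain ⟨a, ha, g, hg⟩ := d.exists_item hns d.kZ d.k2 d.k1 (fun w hw g hg => by
    obtain ⟨n, hn, hnk⟩ := h.fusion d.kA hw hg
    rw [← hnk, (d.cen_of_k hn (hall n hn)).fix_k])
  have hy2 : a * y * (a * y) = 1 := by
    rw [← hg]; exact conj_sq d.k2
  have d' : Dat S A k (a * y) r := { d with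
    hy := mul_mem (h.le ha) d.hy
    hyA := fun hm => d.hyA ((A.mul_mem_cancel_left ha).mp hm) }
  exact d'.false_of_outer hall hns hcard hz hz2 hh.1 hh.2 hy2

end CfsgLib.ONanTwo.Fusion
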