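import Cfsg.Agent.Lib.ONanTwo.Fusion.One

/-!
The case in which some element normalising `A` moves `k` out of the centre.

Blueprint: `blueprint/S3402.md`, part A.
-/

set_option autoImplicit false
set_option linter.unusedSectionVars false
set_option linter.style.haveILetI false

open scoped commutatorElement

namespace CfsgLib.ONanTwo.Fusion

open Cfsg Cfsg.FusionSystem Cfsg.AbelianIndex Cfsg.SmallCentre

variable {G : Type*} [Group G] [Finite G] [Fact (Nat.Prime 2)] {S : Sylow 2 G} {A : Subgroup G} {k y r : G}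

local notation "ZS" => SmallCentre.cen (S : Subgroup G)

theorem Dat.D_gen (h : Dat S A k y r) {c : G} (hc : c ∈ ⁅(S : Subgroup G), (S : Subgroup G)⁆) :
    ∃ i : ℤ, c = ⁅r, y⁆ ^ i := by
  rw [h.hyp0.commutator_eq h.hy h.hyA] at hc
  obtain ⟨_, ⟨a, rfl⟩, rfl⟩ := hc
  obtain ⟨i, hi⟩ := h.gen a a.2
  refine ⟨i, ?_⟩
  have e : (delta h.hyp0 h.hy) a = (delta h.hyp0 h.hy ⟨r, h.hr⟩) ^ i := by
    rw [← map_zpow, ← mul_inv_eq_one, ← map_inv, ← map_mul]
    refine Subtype.ext ?_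
    rw [coe_delta]
    push_cast
    exact commutatorElement_eq_one_iff_mul_comm.mpr (cen_comm hi h.hy).symm
  have e' := congrArg Subtype.val e
  simpa [coe_delta] using e'

/-- `⁅r, y⁆` has order at least four, and `k` is one of its powers. -/
theorem Dat.exists_order (h : Dat S A k y r) :
    ∃ m : ℕ, ⁅r, y⁆ ^ (4 * m) = 1 ∧ ⁅r, y⁆ ^ (2 * m) = k := by
  set d := ⁅r, y⁆ with hd
  have hdD : d ∈ ⁅(S : Subgroup G), (S : Subgroup G)⁆ := Subgroup.commutator_mem_commutator (h.le h.hr) h.hy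
  have hdA : d ∈ A := h.hyp0.commutator_le_A hdD
  have hsmall : d * d ≠ 1 := by
    intro hd2
    have hr2 : r * r ∈ ZS := by
      refine h.hyp0.mem_cen h.hy h.hyA (A.mul_mem h.hr h.hr) (commutatorElement_eq_one_iff_mul_comm.mp ?_)
      have := congrArg Subtype.val ((delta h.hyp0 h.hy).map_mul ⟨r, h.hr⟩ ⟨r, h.hr⟩)
      simp [coe_delta] at this
      rw [this, hd2]
    set Zc := (SmallCentre.cen (S : Subgroup G)).subgroupOf A with hZc
    have hle : Zc.index ≤ 2 := by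
      rw [Subgroup.index_eq_card]
      refine le_of_le_of_eq (Nat.card_le_card_of_surjective
        (fun j : Fin 2 => (QuotientGroup.mk ((⟨r, h.hr⟩ : A) ^ (j : ℕ)) : A ⧸ Zc)) fun q => ?_) (Nat.card_fin 2)
      obtain ⟨⟨a, ha⟩, rfl⟩ := QuotientGroup.mk_surjective q
      obtain ⟨i, hi⟩ := h.gen a ha
      have hz : (r * r) ^ (i / 2) ∈ ZS := zpow_mem hr2 _
      have e : r ^ i = (r * r) ^ (i / 2) * r ^ (i % 2) := by
        rw [show r * r = r ^ (2 : ℤ) from (zpow_two r).symm, ← zpow_mul, ← zpow_add, Int.mul_ediv_add_emod]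
      refine ⟨⟨(i % 2).toNat, by omega⟩, ?_⟩
      rw [QuotientGroup.eq, Subgroup.mem_subgroupOf]
      push_cast
      rw [← zpow_natCast r (i % 2).toNat, Int.toNat_of_nonneg (by omega),
        show (r ^ (i % 2))⁻¹ * a = (r ^ (i % 2))⁻¹ * (a * (r ^ i)⁻¹) * r ^ i by group,
        h.comm_mem (A.inv_mem (A.zpow_mem h.hr _)) (h.Z_le hi), e,
        show ∀ p q : G, p * (r ^ (i % 2))⁻¹ * (q * r ^ (i % 2)) = p * ((r ^ (i % 2))⁻¹ * q * r ^ (i % 2)) from
          fun p q => by group]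
      refine mul_mem (e ▸ hi) ?_
      rw [show (r ^ (i % 2))⁻¹ * (r * r) ^ (i / 2) * r ^ (i % 2) = (r * r) ^ (i / 2) by
        rw [mul_assoc, cen_comm hz (zpow_mem (h.le h.hr) _) |>.symm, inv_mul_cancel_left]]
      exact hz
    have hmul : Zc.index * (A.subgroupOf (S : Subgroup G)).index =
        ((SmallCentre.cen (S : Subgroup G)).subgroupOf (S : Subgroup G)).index :=
      Subgroup.relIndex_mul_relIndex _ _ _ h.hyp0.cen_le_A h.le
    rw [h.idx] at hmul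
    have := h.big
    omega
  obtain ⟨j, hj⟩ : ∃ j, orderOf d = 2 ^ j := by
    obtain ⟨e, he⟩ := (S.2.to_le h.le) ⟨d, hdA⟩
    obtain ⟨j, -, hj⟩ := (Nat.dvd_prime_pow Nat.prime_two).mp
      (orderOf_dvd_of_pow_eq_one (congrArg Subtype.val he) : orderOf d ∣ 2 ^ e)
    exact ⟨j, hj⟩
  have hj2 : 2 ≤ j := by
    by_contra hlt
    refine hsmall ?_
    rw [← pow_two]
    exact orderOf_dvd_iff_pow_eq_one.mp (hj ▸ pow_dvd_pow 2 (by omega : j ≤ 1))
  obtain ⟨i, rfl⟩ : ∃ i, j = i + 2 := ⟨j - 2, by omega⟩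
  refine ⟨2 ^ i, by rw [show 4 * 2 ^ i = 2 ^ (i + 2) by ring, ← hj, pow_orderOf_eq_one], ?_⟩
  have hw : d ^ (2 * 2 ^ i) * d ^ (2 * 2 ^ i) = 1 := by
    rw [← pow_add, show 2 * 2 ^ i + 2 * 2 ^ i = 2 ^ (i + 2) by ring, ← hj, pow_orderOf_eq_one]
  have hwD : d ^ (2 * 2 ^ i) ∈ ⁅(S : Subgroup G), (S : Subgroup G)⁆ := pow_mem hdD _
  have hwZ : d ^ (2 * 2 ^ i) ∈ ZS := by
    refine h.mem_Z (A.pow_mem hdA _) ?_
    rw [h.toCfg.inv_D h.hy h.hyA hwD, inv_eq_of_mul_eq_one_right hw]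
  refine (h.kuniq _ hwZ hwD).resolve_left fun e => ?_
  have h1 := Nat.le_of_dvd (by positivity) (orderOf_dvd_of_pow_eq_one e)
  rw [hj, pow_succ, pow_succ] at h1
  have : 0 < 2 ^ i := by positivity
  omega

/-- If `k` is moved out of the centre then it is a square in the centre. -/
theorem Dat.exists_sqrt (h : Dat S A k y r) {n : G} (hn : n ∈ Subgroup.normalizer (A : Set G))
    (hnk : n * k * n⁻¹ ∉ ZS) : ∃ w ∈ ZS, w * w = k := by
  obtain ⟨m, hm4, hm2⟩ := h.exists_order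
  set d := ⁅r, y⁆ with hd
  have hdD : d ∈ ⁅(S : Subgroup G), (S : Subgroup G)⁆ := Subgroup.commutator_mem_commutator (h.le h.hr) h.hy
  have hdA : d ∈ A := h.hyp0.commutator_le_A hdD
  set e := n * d * n⁻¹ with he
  have heA : e ∈ A := h.conj_mem hn hdA
  obtain ⟨i, hi⟩ := h.D_gen (c := e⁻¹ * (y * e * y⁻¹)) (by
    have := Subgroup.commutator_mem_commutator (h.le (A.inv_mem heA)) h.hy
    rwa [commutatorElement_def, inv_inv, show e⁻¹ * y * e * y⁻¹ = e⁻¹ * (y * e * y⁻¹) by group] at this)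
  have hy' : y * e * y⁻¹ = e * d ^ i := by rw [← hd] at hi; rw [← hi, mul_inv_cancel_left]
  set w₀ := e * (y * e * y⁻¹) with hw₀
  have hw₀Z : w₀ ∈ ZS := h.norm_mem heA
  have hc : Commute e (d ^ i) := h.comm_mem heA (A.zpow_mem hdA i)
  refine ⟨w₀ ^ m, pow_mem hw₀Z m, ?_⟩
  have hki : k ^ i ≠ 1 := by
    intro hk
    refine hnk (h.mem_Z (h.conj_mem hn h.kA) ?_)
    rw [show n * k * n⁻¹ = e ^ (2 * m) by rw [he, conj_pow, hm2], ← conj_pow, hy', hc.mul_pow,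
      ← zpow_natCast (d ^ i), ← zpow_mul, mul_comm i, zpow_mul, zpow_natCast, hm2, hk, mul_one]
  rw [← pow_add, hw₀, hy', ← mul_assoc, (hc.mul_left hc).mul_pow (m + m), ← pow_two, ← pow_mul,
    show 2 * (m + m) = 4 * m by ring, he, conj_pow, hm4, mul_one, mul_inv_cancel, one_mul,
    ← zpow_natCast (d ^ i), ← zpow_mul, mul_comm i, zpow_mul, zpow_natCast, ← two_mul, hm2]
  exact (zpow_of_sq h.k2 i).resolve_left hki

/-- No element normalising `A` moves `k` out of a centre with three involutions. -/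
theorem Dat.not_moving [IsSimpleGroup G] (h : Dat S A k y r) {z₀ : G} (hz₀ : z₀ ∈ ZS) (hz₀2 : z₀ * z₀ = 1)
    (hz₀1 : z₀ ≠ 1) (hz₀k : z₀ ≠ k) {n : G} (hn : n ∈ Subgroup.normalizer (A : Set G)) :
    n * k * n⁻¹ ∈ ZS := by
  by_contra hnk
  -- a central involution kept in the centre by `n⁻¹`
  obtain ⟨u, hu, hu2, hu1, hun⟩ : ∃ u ∈ ZS, u * u = 1 ∧ u ≠ 1 ∧ n⁻¹ * u * n ∈ ZS := by
    by_cases h0 : n⁻¹ * z₀ * n ∈ ZS
    · exact ⟨z₀, hz₀, hz₀2, hz₀1, h0⟩
    have hk' : n⁻¹ * k * n ∉ ZS := fun hh => hnk (by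
      have hc := h.cen_of_k (n := n⁻¹) (inv_mem hn) (by rwa [inv_inv])
      have := hc.inv.fix_k
      rw [inv_inv] at this
      rw [this]; exact h.kZ)
    refine ⟨z₀ * k, mul_mem hz₀ h.kZ, ?_, fun e => hz₀k ?_, ?_⟩
    · rw [show z₀ * k * (z₀ * k) = z₀ * (k * z₀) * k by group, cen_comm h.kZ hz₀.1 |>.symm,
        show z₀ * (z₀ * k) * k = z₀ * z₀ * (k * k) by group, hz₀2, h.k2, mul_one]
    · rw [eq_inv_of_mul_eq_one_left e, inv_eq_of_mul_eq_one_right h.k2]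
    · rw [show n⁻¹ * (z₀ * k) * n = n⁻¹ * z₀ * n * (n⁻¹ * k * n) by group]
      exact h.mul_out (h.conj_mem' hn (h.Z_le hz₀)) (conj_sq' hz₀2) h0 (h.conj_mem' hn h.kA) (conj_sq' h.k2) hk'
  let W : Subgroup G :=
    { carrier := {z | z ∈ ZS ∧ ∀ m ∈ Subgroup.normalizer (A : Set G), m * z * m⁻¹ ∈ ZS}
      one_mem' := ⟨one_mem _, fun m _ => by rw [mul_one, mul_inv_cancel]; exact one_mem _⟩
      mul_mem' := fun {a b} ha hb => ⟨mul_mem ha.1 hb.1, fun m hm => by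
        rw [show m * (a * b) * m⁻¹ = m * a * m⁻¹ * (m * b * m⁻¹) by group]
        exact mul_mem (ha.2 m hm) (hb.2 m hm)⟩
      inv_mem' := fun {a} ha => ⟨inv_mem ha.1, fun m hm => by
        rw [show m * a⁻¹ * m⁻¹ = (m * a * m⁻¹)⁻¹ by group]
        exact inv_mem (ha.2 m hm)⟩ }
  have huW : u ∈ W := ⟨hu, fun m hm => by
    have := h.common hn hnk hu hu2 hun (inv_mem hm)
    rwa [inv_inv] at this⟩
  have hconj : ∀ z ∈ W, ∀ g ∈ Subgroup.normalizer (A : Set G), g * z * g⁻¹ ∈ W := fun z hz g hg =>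
    ⟨hz.2 g hg, fun m hm => by
      rw [show m * (g * z * g⁻¹) * m⁻¹ = m * g * z * (m * g)⁻¹ by group]
      exact hz.2 _ (mul_mem hm hg)⟩
  set F := groupFusionSystem (S : Subgroup G) with hF
  by_cases hcore : F.core = ⊥
  swap
  · obtain ⟨g, hg⟩ := isConj_iff.mp (h.toCfg.one_class hcore hu2 hu1 h.k2 h.k1)
    obtain ⟨m, hm, hmu⟩ := h.toCfg.fusion (h.Z_le hu) h.kA hg
    refine hnk ?_
    have := huW.2 (n * m) (mul_mem hn hm)
    rwa [show n * m * u * (n * m)⁻¹ = n * (m * u * m⁻¹) * n⁻¹ by group, hmu] at this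
  have hW : W = ⊥ := by
    refine h.hyp0.sat.eq_bot_of_invariant S.2 hcore (fun z hz => hz.1.1) (fun α hα z hz => ?_) fun E hE => ?_
    · rw [autGroup_groupFusionSystem le_rfl] at hα
      obtain ⟨g, -, hgN, hge⟩ := mem_autInducedBy_iff.mp hα
      rw [hge]
      exact hconj _ hz g (h.toCfg.normalizer_le hgN)
    refine ⟨fun z hz => h.hyp0.cen_le_ess hE hz.1, fun α hα z hz => ?_⟩
    by_cases hEA : E = A
    · rw [autGroup_groupFusionSystem hE.1.1] at hα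
      obtain ⟨g, -, hgN, hge⟩ := mem_autInducedBy_iff.mp hα
      rw [hge]
      exact hconj _ hz g (hEA ▸ hgN)
    rcases h.hyp0.typeH_or hE hEA with hH | ⟨-, hna⟩
    · exfalso
      obtain ⟨c, k', -, hK, hko, htv⟩ := h.hyp0.exists_tv hE hH
      haveI : Finite E := finite_of_le hE.1.1
      obtain ⟨φ, hφ, hZ⟩ := htv.exists_moving
      obtain ⟨w, hw, hwk⟩ := h.exists_sqrt hn hnk
      have hk'2 : (k' : G) * k' = 1 := by rw [← pow_two, ← hko, pow_orderOf_eq_one]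
      have hkk : k = k' := by
        have : k ∈ Subgroup.zpowers (k' : G) := hK ▸ ⟨h.kZ, h.kD⟩
        obtain ⟨i, hi⟩ := this
        rcases zpow_of_sq hk'2 i with e | e
        · exact absurd (hi.symm.trans e) h.k1
        · exact hi.symm.trans e
      obtain ⟨y₀, hy₀, i, hwy⟩ := htv.decomp hφ hZ (z := ⟨w, h.hyp0.cen_le_ess hE hw⟩) hw
      have hk'E : k' * k' = 1 := Subtype.ext hk'2
      have e : k' = y₀ * y₀ := by
        have h1 : (⟨w, h.hyp0.cen_le_ess hE hw⟩ : E) * ⟨w, h.hyp0.cen_le_ess hE hw⟩ = k' :=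
          Subtype.ext (hwk.trans hkk)
        rw [← h1, hwy]
        rcases zpow_of_sq hk'E i with e' | e' <;> rw [e']
        · rw [mul_one]
        · rw [show y₀ * k' * (y₀ * k') = y₀ * (k' * y₀) * k' by group, htv.comm k' y₀,
            show y₀ * (y₀ * k') * k' = y₀ * y₀ * (k' * k') by group, hk'E, mul_one]
      exact htv.k_not_mem hφ hZ (e ▸ mul_mem hy₀.2 hy₀.2)
    · obtain ⟨γ, hγ, hγe⟩ := h.hyp0.cenExt ((F.mem_autGroup_iff hE.1.1).mp hα) hna
      rw [show ((α z : E) : G) = γ ⟨z, hE.1.1 z.2⟩ from (hγe ⟨z, hE.1.1 z.2⟩ hz.1).2 z.2]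
      rw [autGroup_groupFusionSystem le_rfl] at hγ
      obtain ⟨g, -, hgN, hge⟩ := mem_autInducedBy_iff.mp hγ
      rw [hge]
      exact hconj _ hz g (h.toCfg.normalizer_le hgN)
  exact hu1 (Subgroup.mem_bot.mp (hW ▸ huW))

end CfsgLib.ONanTwo.Fusion
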