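import Cfsg.Agent.Lib.ONanTwo.Fusion.Auto
import Cfsg.Agent.Lib.Fusion.GroupSimple
import Cfsg.Agent.Lib.M12Sylow.Small
import Cfsg.Agent.S1169
import Cfsg.Agent.S5089

/-!
The rank bound from a small centre; one class of involutions when the fusion system has a normal subgroup.

Blueprint: `blueprint/S3402.md`, part A.
-/

set_option autoImplicit false
set_option linter.unusedSectionVars false
set_option linter.style.haveILetI false

open scoped commutatorElement

namespace CfsgLib.ONanTwo.Fusion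

open Cfsg Cfsg.FusionSystem Cfsg.AbelianIndex Cfsg.SmallCentre

variable {G : Type*} [Group G] [Finite G] [Fact (Nat.Prime 2)] {S : Sylow 2 G} {A : Subgroup G} {k y r : G}

local notation "ZS" => SmallCentre.cen (S : Subgroup G)

omit [Finite G] [Fact (Nat.Prime 2)] in
theorem card_le_four (E : Subgroup G) (a b c d : G) (h : ∀ e ∈ E, e = a ∨ e = b ∨ e = c ∨ e = d) :
    Nat.card E ≤ 4 := by
  classical
  have hsub : (E : Set G) ⊆ ↑({a, b, c, d} : Finset G) := fun e he => by simpa using h e he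
  have := Nat.card_mono (Finset.finite_toSet _) hsub
  rw [Nat.card_coe_set_eq (↑({a, b, c, d} : Finset G) : Set G), Set.ncard_coe_finset] at this
  exact this.trans Finset.card_le_four

/-- Two involutions in the centre bound the rank by two. -/
theorem Dat.prankLE (h : Dat S A k y r) (hz : ∀ z ∈ ZS, z * z = 1 → z = 1 ∨ z = k) : PRankLE 2 2 G := by
  intro E hEc hE2
  obtain ⟨g, hg⟩ := exists_conj_mem_sylow S (X := E) fun e => ⟨1, Subtype.ext (by simpa using hE2 e e.2)⟩
  set E' := E.map (MulAut.conj g).toMonoidHom with hE'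
  rw [show Nat.card E = Nat.card E' from Nat.card_congr (E.equivMapOfInjective _ (MulAut.conj g).injective).toEquiv]
  have hsq : ∀ e ∈ E', e * e = 1 := by
    rintro _ ⟨e, he, rfl⟩
    rw [← map_mul, ← pow_two, hE2 e he, map_one]
  have hcomm : ∀ e ∈ E', ∀ f ∈ E', e * f = f * e := by
    rintro _ ⟨e, he, rfl⟩ _ ⟨f, hf, rfl⟩
    haveI := hEc
    rw [← map_mul, ← map_mul, show e * f = f * e from
      congrArg Subtype.val (IsMulCommutative.is_comm.comm (⟨e, he⟩ : E) ⟨f, hf⟩)]
  have hES : ∀ e ∈ E', e ∈ (S : Subgroup G) := by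
    rintro _ ⟨e, he, rfl⟩; exact hg e he
  by_cases hEA : ∀ e ∈ E', e ∈ A
  · by_cases hEZ : ∀ e ∈ E', e ∈ ZS
    · exact (card_le_four E' 1 k 1 k fun e he => (hz e (hEZ e he) (hsq e he)).elim Or.inl (Or.inr ∘ Or.inl))
    push Not at hEZ
    obtain ⟨v, hv, hvZ⟩ := hEZ
    refine card_le_four E' 1 k v (k * v) fun e he => ?_
    by_cases heZ : e ∈ ZS
    · exact (hz e heZ (hsq e he)).elim Or.inl (Or.inr ∘ Or.inl)
    · have := h.mul_out (hEA e he) (hsq e he) heZ (hEA v hv) (hsq v hv) hvZ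
      have e1 : e = e * v * v := by rw [mul_assoc, hsq v hv, mul_one]
      rcases hz _ this (hsq _ (mul_mem he hv)) with e2 | e2 <;> rw [e2] at e1
      · exact Or.inr (Or.inr (Or.inl (by rw [e1, one_mul])))
      · exact Or.inr (Or.inr (Or.inr e1))
  · push Not at hEA
    obtain ⟨x, hx, hxA⟩ := hEA
    have key : ∀ e ∈ E', e ∈ A → e = 1 ∨ e = k := fun e he heA =>
      hz e (h.hyp0.mem_cen (hES x hx) hxA heA (hcomm e he x hx)) (hsq e he)
    refine card_le_four E' 1 k x (k * x) fun e he => ?_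
    by_cases heA : e ∈ A
    · exact (key e he heA).elim Or.inl (Or.inr ∘ Or.inl)
    · have : e * x ∈ A := by
        have := (Subgroup.mul_mem_iff_of_index_two h.idx
          (a := (⟨e, hES e he⟩ : (S : Subgroup G))) (b := ⟨x, hES x hx⟩)).mpr
          ⟨fun h1 => absurd h1 heA, fun h1 => absurd h1 hxA⟩
        exact this
      have e1 : e = e * x * x := by rw [mul_assoc, hsq x hx, mul_one]
      rcases key _ (mul_mem he hx) this with e2 | e2 <;> rw [e2] at e1
      · exact Or.inr (Or.inr (Or.inl (by rw [e1, one_mul])))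
      · exact Or.inr (Or.inr (Or.inr e1))

/-- A strongly embedded subgroup holds a Sylow 2-subgroup. -/
theorem exists_sylow_le_of_se {H : Subgroup G} (hH : IsStronglyEmbedded H) :
    ∃ P : Sylow 2 G, (P : Subgroup G) ≤ H := by
  obtain ⟨-, heven, hse⟩ := hH
  let Q : Sylow 2 H := default
  set R := (Q : Subgroup H).map H.subtype with hR
  obtain ⟨P, hP⟩ := (Q.2.map H.subtype).exists_le_sylow (P := R)
  refine ⟨P, ?_⟩
  have hcard : Nat.card R = Nat.card (Q : Subgroup H) := Subgroup.card_map_of_injective H.subtype_injective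
  have hRH : R ≤ H := Subgroup.map_subtype_le _
  rcases (le_iff_lt_or_eq.mp hP : R < P ∨ R = P) with hlt | heq
  swap
  · exact heq ▸ hRH
  exfalso
  obtain ⟨g, hg, hgR⟩ := SetLike.exists_of_lt (FusionSystem.lt_normalizerIn (p := 2) P.2 hlt)
  have hgH : g ∉ H := fun hh => by
    have hle : (Q : Subgroup H) ≤ ((P : Subgroup G) ⊓ Subgroup.normalizer (R : Set G)).subgroupOf H :=
      fun x hx => ⟨hP ⟨x, hx, rfl⟩, Subgroup.le_normalizer (show (x : G) ∈ R from ⟨x, hx, rfl⟩)⟩
    have hmax := Q.is_maximal' ((P.2.to_le inf_le_left).comap_of_injective H.subtype H.subtype_injective) hle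
    exact hgR ⟨⟨g, hh⟩, hmax.le (show (⟨g, hh⟩ : H) ∈ ((P : Subgroup G) ⊓
      Subgroup.normalizer (R : Set G)).subgroupOf H from hg), rfl⟩
  have hle2 : R ≤ H ⊓ H.map (MulAut.conj g).toMonoidHom := by
    refine le_inf hRH fun x hx => ⟨g⁻¹ * x * g, hRH ((Subgroup.mem_normalizer_iff''.mp hg.2 x).mp hx), ?_⟩
    show g * (g⁻¹ * x * g) * g⁻¹ = x
    group
  have h2 : 2 ∣ Nat.card R := by
    rw [hcard, Q.card_eq_multiplicity]
    exact dvd_pow_self 2 (Nat.Prime.factorization_pos_of_dvd Nat.prime_two Nat.card_pos.ne'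
      (even_iff_two_dvd.mp heven)).ne'
  exact Nat.not_even_iff_odd.mpr (hse g hgH) (even_iff_two_dvd.mpr (h2.trans (Subgroup.card_dvd_of_le hle2)))

/-- With a normal subgroup in the fusion system, all involutions are conjugate. -/
theorem Cfg.one_class [IsSimpleGroup G] (h : Cfg S A) (hcore : (groupFusionSystem (S : Subgroup G)).core ≠ ⊥)
    {u v : G} (hu : u * u = 1) (hu1 : u ≠ 1) (hv : v * v = 1) (hv1 : v ≠ 1) : IsConj u v := by
  obtain ⟨Q, hQ1, hQc, hQ⟩ :=
    (Cfsg.Agent.S5089.result 2 S.2 _ h.hyp0.sat).mp hcore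
  obtain ⟨hQS, hcl⟩ := GroupSimple.fusionClosed_of_stronglyClosed hQ
  rcases Cfsg.Agent.S1169.result S Q hQ1 hQc ⟨hQS, hcl⟩ with hc | ⟨H, hH⟩
  · exact absurd hc h.nonab
  · obtain ⟨P, hP⟩ := exists_sylow_le_of_se hH
    exact M12Sylow.one_class_of_se hH P hP hu hu1 hv hv1

end CfsgLib.ONanTwo.Fusion
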